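import Mathlib

/-!
# Algebra for `I`-power torsion modules along a flat map `A → B` with `A/I ≅ B/IB`
-/

set_option autoImplicit false

open TensorProduct

namespace Groth.Agent.Lib.Helper2.TorsExt

section Basic

variable {A : Type*} [CommRing A]

/-- The canonical map `P → B ⊗ P`. -/
noncomputable abbrev iota (A : Type*) [CommRing A] (B : Type*) [CommRing B] [Algebra A B]
    (P : Type*) [AddCommGroup P] [Module A P] : P →ₗ[A] B ⊗[A] P := TensorProduct.mk A B P 1

lemma lTensor_iota (B : Type*) [CommRing B] [Algebra A B] {P P' : Type*} [AddCommGroup P]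
    [Module A P] [AddCommGroup P'] [Module A P'] (φ : P →ₗ[A] P') (p : P) :
    (φ.lTensor B) (iota A B P p) = iota A B P' (φ p) := rfl

/-- `f`-power torsion modules. -/
def FTors (f : A) (H : Type*) [AddCommGroup H] [Module A H] : Prop :=
  ∀ h : H, ∃ n : ℕ, f ^ n • h = 0

/-- `f` acts bijectively. -/
def FBij (f : A) (H : Type*) [AddCommGroup H] [Module A H] : Prop :=
  Function.Bijective (fun h : H => f • h)

end Basic

section Killed

variable {A : Type*} [CommRing A] (B : Type*) [CommRing B] [Algebra A B] (I : Ideal A)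

lemma tmul_eq_zero_of_mem_map {P : Type*} [AddCommGroup P] [Module A P]
    (hP : ∀ a ∈ I, ∀ p : P, a • p = 0) (c : B) (hc : c ∈ I.map (algebraMap A B)) (p : P) :
    c ⊗ₜ[A] p = 0 := by
  unfold Ideal.map at hc
  induction hc using Submodule.span_induction with
  | mem x hx =>
    obtain ⟨a, ha, rfl⟩ := hx
    have : algebraMap A B a = a • (1 : B) := by rw [Algebra.smul_def, mul_one]
    rw [this, TensorProduct.smul_tmul, hP a ha, tmul_zero]
  | zero => exact zero_tmul _ _
  | add x y _ _ hx hy => rw [add_tmul, hx, hy, add_zero]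
  | smul b x _ hx =>
    have : (b • x) ⊗ₜ[A] p = b • (x ⊗ₜ[A] p) := (TensorProduct.smul_tmul' b x p).symm
    rw [this, hx, smul_zero]

variable (hs : Function.Surjective
    ((Ideal.Quotient.mk (I.map (algebraMap A B))).comp (algebraMap A B)))

include hs in
lemma iota_surjective_of_killed {P : Type*} [AddCommGroup P] [Module A P]
    (hP : ∀ a ∈ I, ∀ p : P, a • p = 0) : Function.Surjective (iota A B P) := by
  intro z
  induction z using TensorProduct.induction_on with
  | zero => exact ⟨0, map_zero _⟩
  | tmul b p =>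
    obtain ⟨a, ha⟩ := hs (Ideal.Quotient.mk _ b)
    have hc : b - algebraMap A B a ∈ I.map (algebraMap A B) := by
      rw [← Ideal.Quotient.eq]; exact ha.symm
    refine ⟨a • p, ?_⟩
    have h1 := tmul_eq_zero_of_mem_map B I hP _ hc p
    rw [sub_tmul, sub_eq_zero] at h1
    rw [h1]
    change (1 : B) ⊗ₜ[A] (a • p) = _
    rw [← TensorProduct.smul_tmul, Algebra.smul_def, mul_one]
  | add x y hx hy =>
    obtain ⟨px, hx⟩ := hx
    obtain ⟨py, hy⟩ := hy
    exact ⟨px + py, by rw [map_add, hx, hy]⟩

variable (hk : RingHom.ker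
    ((Ideal.Quotient.mk (I.map (algebraMap A B))).comp (algebraMap A B)) = I)

/-- The ring map `B → B/IB ≅ A/I`. -/
noncomputable def rhoRing : B →+* A ⧸ I :=
  ((Ideal.quotEquivOfEq hk).toRingHom).comp
    ((RingHom.quotientKerEquivOfSurjective hs).symm.toRingHom.comp
      (Ideal.Quotient.mk (I.map (algebraMap A B))))

lemma rhoRing_algebraMap (a : A) :
    rhoRing B I hs hk (algebraMap A B a) = Ideal.Quotient.mk I a := by
  unfold rhoRing
  simp only [RingHom.coe_comp, Function.comp_apply, RingEquiv.toRingHom_eq_coe, RingHom.coe_coe]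
  have h1 : (RingHom.quotientKerEquivOfSurjective hs).symm
      (Ideal.Quotient.mk (I.map (algebraMap A B)) (algebraMap A B a)) =
      Ideal.Quotient.mk _ a := by
    rw [RingEquiv.symm_apply_eq]
    rfl
  rw [h1]
  rfl

/-- The `A`-linear map `B → A/I`. -/
noncomputable def rho : B →ₗ[A] A ⧸ I where
  toFun := rhoRing B I hs hk
  map_add' := map_add _
  map_smul' a b := by
    simp only [RingHom.id_apply]
    rw [Algebra.smul_def, map_mul, rhoRing_algebraMap, Algebra.smul_def]
    rfl

lemma rho_one : rho B I hs hk 1 = 1 := map_one (rhoRing B I hs hk)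

/-- scalar action of `A/I` on a module killed by `I`. -/
noncomputable def sigma {P : Type*} [AddCommGroup P] [Module A P]
    (hP : ∀ a ∈ I, ∀ p : P, a • p = 0) : (A ⧸ I) →ₗ[A] P →ₗ[A] P :=
  Submodule.liftQ I (LinearMap.lsmul A P) (fun a ha => by
    rw [LinearMap.mem_ker]
    ext p
    exact hP a ha p)

include hs hk in
lemma iota_injective_of_killed {P : Type*} [AddCommGroup P] [Module A P]
    (hP : ∀ a ∈ I, ∀ p : P, a • p = 0) : Function.Injective (iota A B P) := by
  let r : B ⊗[A] P →ₗ[A] P := TensorProduct.lift ((sigma I hP).comp (rho B I hs hk))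
  have hr : ∀ p, r (iota A B P p) = p := by
    intro p
    change r ((1 : B) ⊗ₜ[A] p) = p
    rw [TensorProduct.lift.tmul, LinearMap.comp_apply, rho_one]
    change (Submodule.liftQ I (LinearMap.lsmul A P) _) (Submodule.Quotient.mk (1 : A)) p = p
    rw [Submodule.liftQ_apply]
    simp
  exact Function.LeftInverse.injective hr

include hs hk in
lemma iota_bijective_of_killed {P : Type*} [AddCommGroup P] [Module A P]
    (hP : ∀ a ∈ I, ∀ p : P, a • p = 0) : Function.Bijective (iota A B P) :=
  ⟨iota_injective_of_killed B I hs hk hP, iota_surjective_of_killed B I hs hP⟩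

end Killed

section Five

variable {A : Type*} [CommRing A] (B : Type*) [CommRing B] [Algebra A B] [Module.Flat A B]

/-- Short five lemma for `iota`. -/
lemma iota_bijective_of_exact {P' P P'' : Type*} [AddCommGroup P'] [Module A P'] [AddCommGroup P]
    [Module A P] [AddCommGroup P''] [Module A P''] (i : P' →ₗ[A] P) (π : P →ₗ[A] P'')
    (hi : Function.Injective i) (hex : Function.Exact i π) (hπ : Function.Surjective π)
    (h' : Function.Bijective (iota A B P')) (h'' : Function.Bijective (iota A B P'')) :
    Function.Bijective (iota A B P) := by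
  have hiB : Function.Injective (i.lTensor B) := Module.Flat.lTensor_preserves_injective_linearMap i hi
  have hexB : Function.Exact (i.lTensor B) (π.lTensor B) := lTensor_exact B hex hπ
  constructor
  · rw [injective_iff_map_eq_zero]
    intro p hp
    have h1 : iota A B P'' (π p) = 0 := by rw [← lTensor_iota, hp, map_zero]
    have h2 : π p = 0 := (injective_iff_map_eq_zero _).1 h''.1 _ h1
    obtain ⟨p', rfl⟩ := (hex p).1 h2
    have h3 : (i.lTensor B) (iota A B P' p') = 0 := by rw [lTensor_iota]; exact hp
    have h4 : iota A B P' p' = 0 := (injective_iff_map_eq_zero _).1 hiB _ h3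
    rw [(injective_iff_map_eq_zero _).1 h'.1 _ h4, map_zero]
  · intro z
    obtain ⟨p'', hp''⟩ := h''.2 ((π.lTensor B) z)
    obtain ⟨p, rfl⟩ := hπ p''
    have h1 : (π.lTensor B) (z - iota A B P p) = 0 := by
      rw [map_sub, lTensor_iota, hp'', sub_self]
    obtain ⟨z', hz'⟩ := (hexB _).1 h1
    obtain ⟨p', rfl⟩ := h'.2 z'
    refine ⟨p + i p', ?_⟩
    rw [map_add, ← lTensor_iota, hz']
    abel

end Five

section Power

variable {A : Type*} [CommRing A] (B : Type*) [CommRing B] [Algebra A B] [Module.Flat A B]
  (I : Ideal A)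
  (hs : Function.Surjective
    ((Ideal.Quotient.mk (I.map (algebraMap A B))).comp (algebraMap A B)))
  (hk : RingHom.ker
    ((Ideal.Quotient.mk (I.map (algebraMap A B))).comp (algebraMap A B)) = I)

include hs hk in
lemma iota_bijective_of_killed_pow (n : ℕ) : ∀ {P : Type*} [AddCommGroup P] [Module A P]
    (_ : ∀ a ∈ I ^ n, ∀ p : P, a • p = 0), Function.Bijective (iota A B P) := by
  induction n with
  | zero =>
    intro P _ _ hP
    have : Subsingleton P := ⟨fun x y => by
      have hx := hP 1 (by simp) x
      have hy := hP 1 (by simp) y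
      rw [one_smul] at hx hy
      rw [hx, hy]⟩
    have hsub : Subsingleton (B ⊗[A] P) := inferInstance
    exact ⟨fun x y _ => Subsingleton.elim _ _, fun z => ⟨0, Subsingleton.elim _ _⟩⟩
  | succ n ih =>
    intro P _ _ hP
    let P' : Submodule A P := I • (⊤ : Submodule A P)
    have hP' : ∀ a ∈ I ^ n, ∀ p : P', a • p = 0 := by
      intro a ha p
      apply Subtype.ext
      change a • (p : P) = 0
      have hp : (p : P) ∈ I • (⊤ : Submodule A P) := p.2
      refine Submodule.smul_induction_on (p := fun x => a • x = 0) hp ?_ ?_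
      · intro b hb x _
        rw [← mul_smul]
        exact hP _ (by rw [pow_succ]; exact Ideal.mul_mem_mul ha hb) x
      · intro x y hx hy
        rw [smul_add, hx, hy, add_zero]
    have hP'' : ∀ a ∈ I, ∀ p : P ⧸ P', a • p = 0 := by
      intro a ha p
      obtain ⟨x, rfl⟩ := Submodule.Quotient.mk_surjective _ p
      rw [← Submodule.Quotient.mk_smul, Submodule.Quotient.mk_eq_zero]
      exact Submodule.smul_mem_smul ha trivial
    refine iota_bijective_of_exact B P'.subtype P'.mkQ (Submodule.injective_subtype _)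
      ?_ (Submodule.mkQ_surjective _) (ih hP') (iota_bijective_of_killed B I hs hk hP'')
    intro x
    rw [Submodule.mkQ_apply, Submodule.Quotient.mk_eq_zero]
    simp

include hs hk in
/-- For an `I`-power torsion module `H`, the canonical map `H → B ⊗ H` is bijective. -/
theorem iota_bijective_of_powerTorsion {H : Type*} [AddCommGroup H] [Module A H]
    (hH : ∀ h : H, ∃ n : ℕ, ∀ a ∈ I ^ n, a • h = 0) : Function.Bijective (iota A B H) := by
  let Hn : ℕ → Submodule A H := fun n => Submodule.torsionBySet A H (I ^ n : Ideal A)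
  have hHn : ∀ n, ∀ a ∈ I ^ n, ∀ p : Hn n, a • p = 0 := by
    intro n a ha p
    apply Subtype.ext
    change a • (p : H) = 0
    have := p.2
    rw [Submodule.mem_torsionBySet_iff] at this
    exact this ⟨a, ha⟩
  have hbij : ∀ n, Function.Bijective (iota A B (Hn n)) :=
    fun n => iota_bijective_of_killed_pow B I hs hk n (hHn n)
  have hinj : ∀ n, Function.Injective ((Hn n).subtype.lTensor B) := fun n =>
    Module.Flat.lTensor_preserves_injective_linearMap _ (Submodule.injective_subtype _)
  have hmem : ∀ h : H, ∃ n, h ∈ Hn n := by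
    intro h
    obtain ⟨n, hn⟩ := hH h
    refine ⟨n, ?_⟩
    rw [Submodule.mem_torsionBySet_iff]
    exact fun a => hn a a.2
  constructor
  · rw [injective_iff_map_eq_zero]
    intro h hh
    obtain ⟨n, hn⟩ := hmem h
    have h1 : ((Hn n).subtype.lTensor B) (iota A B (Hn n) ⟨h, hn⟩) = 0 := by
      rw [lTensor_iota]; exact hh
    have h2 := (injective_iff_map_eq_zero _).1 (hinj n) _ h1
    have h3 := (injective_iff_map_eq_zero _).1 (hbij n).1 _ h2
    exact congrArg Subtype.val h3
  · intro z
    induction z using TensorProduct.induction_on with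
    | zero => exact ⟨0, map_zero _⟩
    | tmul b h =>
      obtain ⟨n, hn⟩ := hmem h
      obtain ⟨p, hp⟩ := (hbij n).2 (b ⊗ₜ[A] (⟨h, hn⟩ : Hn n))
      refine ⟨(p : H), ?_⟩
      have := congrArg ((Hn n).subtype.lTensor B) hp
      rw [lTensor_iota] at this
      exact this
    | add x y hx hy =>
      obtain ⟨px, hx⟩ := hx
      obtain ⟨py, hy⟩ := hy
      exact ⟨px + py, by rw [map_add, hx, hy]⟩

end Power

section FTorsLemmas

variable {A : Type*} [CommRing A] (f : A)

lemma FTors.of_exact {H' H H'' : Type*} [AddCommGroup H'] [Module A H'] [AddCommGroup H]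
    [Module A H] [AddCommGroup H''] [Module A H''] (i : H' →ₗ[A] H) (π : H →ₗ[A] H'')
    (hex : Function.Exact i π) (h' : FTors f H') (h'' : FTors f H'') : FTors f H := by
  intro h
  obtain ⟨n, hn⟩ := h'' (π h)
  rw [← map_smul] at hn
  obtain ⟨x, hx⟩ := (hex _).1 hn
  obtain ⟨m, hm⟩ := h' x
  refine ⟨m + n, ?_⟩
  rw [pow_add, mul_smul, ← hx, ← map_smul, hm, map_zero]

lemma FTors.of_injective {H' H : Type*} [AddCommGroup H'] [Module A H'] [AddCommGroup H]
    [Module A H] (i : H' →ₗ[A] H) (hi : Function.Injective i) (h : FTors f H) : FTors f H' := by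
  intro x
  obtain ⟨n, hn⟩ := h (i x)
  exact ⟨n, hi (by rw [map_smul, hn, map_zero])⟩

lemma FTors.of_surjective {H H'' : Type*} [AddCommGroup H] [Module A H] [AddCommGroup H'']
    [Module A H''] (π : H →ₗ[A] H'') (hπ : Function.Surjective π) (h : FTors f H) :
    FTors f H'' := by
  intro y
  obtain ⟨x, rfl⟩ := hπ y
  obtain ⟨n, hn⟩ := h x
  exact ⟨n, by rw [← map_smul, hn, map_zero]⟩

lemma FTors.of_linearEquiv {H H' : Type*} [AddCommGroup H] [Module A H] [AddCommGroup H']
    [Module A H'] (e : H ≃ₗ[A] H') (h : FTors f H) : FTors f H' :=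
  FTors.of_surjective f e.toLinearMap e.surjective h

lemma FTors.tensor (B' : Type*) [AddCommGroup B'] [Module A B'] {H : Type*} [AddCommGroup H]
    [Module A H] (h : FTors f H) : FTors f (B' ⊗[A] H) := by
  intro z
  induction z using TensorProduct.induction_on with
  | zero => exact ⟨0, smul_zero _⟩
  | tmul b x =>
    obtain ⟨n, hn⟩ := h x
    exact ⟨n, by rw [TensorProduct.smul_tmul', TensorProduct.smul_tmul, hn, tmul_zero]⟩
  | add x y hx hy =>
    obtain ⟨n, hn⟩ := hx
    obtain ⟨m, hm⟩ := hy
    refine ⟨n + m, ?_⟩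
    have h1 : f ^ (n + m) • x = 0 := by rw [pow_add, mul_comm, mul_smul, hn, smul_zero]
    have h2 : f ^ (n + m) • y = 0 := by rw [pow_add, mul_smul, hm, smul_zero]
    rw [smul_add, h1, h2, add_zero]

lemma FTors.of_subsingleton_tensor {H : Type*} [AddCommGroup H] [Module A H]
    (h : Subsingleton (Localization.Away f ⊗[A] H)) : FTors f H := by
  intro x
  have h1 : TensorProduct.mk A (Localization.Away f) H 1 x = 0 := Subsingleton.elim _ _
  rw [IsLocalizedModule.eq_zero_iff (Submonoid.powers f)] at h1
  obtain ⟨⟨_, n, rfl⟩, hn⟩ := h1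
  exact ⟨n, hn⟩

lemma subsingleton_tensor_of_FTors {H : Type*} [AddCommGroup H] [Module A H]
    (h : FTors f H) : Subsingleton (Localization.Away f ⊗[A] H) := by
  refine ⟨fun y y' => ?_⟩
  have key : ∀ y : Localization.Away f ⊗[A] H, y = 0 := by
    intro y
    obtain ⟨⟨x, s⟩, hx⟩ := IsLocalizedModule.surj (Submonoid.powers f)
      (TensorProduct.mk A (Localization.Away f) H 1) y
    obtain ⟨n, hn⟩ := h x
    have h1 : TensorProduct.mk A (Localization.Away f) H 1 x = 0 := by
      rw [IsLocalizedModule.eq_zero_iff (Submonoid.powers f)]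
      exact ⟨⟨f ^ n, n, rfl⟩, hn⟩
    rw [h1] at hx
    exact IsLocalizedModule.smul_injective (TensorProduct.mk A (Localization.Away f) H 1) s
      (by simpa using hx)
  rw [key y, key y']

lemma FTors_of_powerTorsion (I : Ideal A) (hf : f ∈ I) {H : Type*} [AddCommGroup H] [Module A H]
    (hH : ∀ h : H, ∃ n : ℕ, ∀ a ∈ I ^ n, a • h = 0) : FTors f H := by
  intro h
  obtain ⟨n, hn⟩ := hH h
  exact ⟨n, hn _ (Ideal.pow_mem_pow hf n)⟩

lemma powerTorsion_of_FTors (S : Finset A) {H : Type*} [AddCommGroup H] [Module A H]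
    (hH : ∀ g ∈ S, FTors g H) (h : H) :
    ∃ n : ℕ, ∀ a ∈ (Ideal.span (S : Set A)) ^ n, a • h = 0 := by
  let J : Ideal A := LinearMap.ker (LinearMap.toSpanSingleton A H h)
  have hJ : ∀ a, a ∈ J ↔ a • h = 0 := fun a => by
    rw [LinearMap.mem_ker, LinearMap.toSpanSingleton_apply]
  have hle : Ideal.span (S : Set A) ≤ J.radical := by
    rw [Ideal.span_le]
    intro g hg
    obtain ⟨n, hn⟩ := hH g hg h
    exact ⟨n, (hJ _).2 hn⟩
  obtain ⟨k, hk⟩ := Ideal.exists_pow_le_of_le_radical_of_fg hle ⟨S, rfl⟩
  exact ⟨k, fun a ha => (hJ a).1 (hk ha)⟩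

end FTorsLemmas

section FBijLemmas

variable {A : Type*} [CommRing A] (f : A)

lemma FBij.of_linearEquiv {H H' : Type*} [AddCommGroup H] [Module A H] [AddCommGroup H']
    [Module A H'] (e : H ≃ₗ[A] H') (h : FBij f H) : FBij f H' := by
  constructor
  · intro x y hxy
    apply e.symm.injective
    apply h.1
    change f • e.symm x = f • e.symm y
    rw [← map_smul, ← map_smul]
    exact congrArg e.symm hxy
  · intro y
    obtain ⟨x, hx⟩ := h.2 (e.symm y)
    refine ⟨e x, ?_⟩
    change f • e x = y
    rw [← map_smul]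
    have : f • x = e.symm y := hx
    rw [this, e.apply_symm_apply]

lemma FBij.tensor (B' : Type*) [AddCommGroup B'] [Module A B'] {H : Type*} [AddCommGroup H]
    [Module A H] (h : FBij f H) : FBij f (B' ⊗[A] H) := by
  let e : H ≃ₗ[A] H := LinearEquiv.ofBijective (LinearMap.lsmul A H f) h
  have he : ∀ z : B' ⊗[A] H, (LinearEquiv.lTensor B' e) z = f • z := by
    intro z
    induction z using TensorProduct.induction_on with
    | zero => rw [map_zero, smul_zero]
    | tmul b x =>
      rw [LinearEquiv.lTensor_tmul]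
      change b ⊗ₜ[A] (f • x) = _
      rw [TensorProduct.tmul_smul]
    | add x y hx hy => rw [map_add, hx, hy, smul_add]
  have : (fun z : B' ⊗[A] H => f • z) = (LinearEquiv.lTensor B' e) := by
    funext z; exact (he z).symm
  unfold FBij
  rw [this]
  exact (LinearEquiv.lTensor B' e).bijective

lemma FBij.of_isScalarTower {H : Type*} [AddCommGroup H] [Module A H]
    [Module (Localization.Away f) H] [IsScalarTower A (Localization.Away f) H] : FBij f H := by
  have hu : IsUnit (algebraMap A (Localization.Away f) f) :=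
    IsLocalization.map_units (Localization.Away f) (⟨f, Submonoid.mem_powers f⟩ : Submonoid.powers f)
  have hfun : (fun h : H => f • h) = fun h : H => (algebraMap A (Localization.Away f) f) • h := by
    funext h; rw [algebraMap_smul]
  unfold FBij
  rw [hfun]
  obtain ⟨v, hv⟩ := hu.exists_right_inv
  have hv' : v * algebraMap A (Localization.Away f) f = 1 := by rw [mul_comm]; exact hv
  constructor
  · intro x y hxy
    have hxy' : algebraMap A (Localization.Away f) f • x =
        algebraMap A (Localization.Away f) f • y := hxy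
    calc x = (v * algebraMap A (Localization.Away f) f) • x := by rw [hv', one_smul]
      _ = v • (algebraMap A (Localization.Away f) f • x) := mul_smul _ _ _
      _ = v • (algebraMap A (Localization.Away f) f • y) := by rw [hxy']
      _ = (v * algebraMap A (Localization.Away f) f) • y := (mul_smul _ _ _).symm
      _ = y := by rw [hv', one_smul]
  · intro y
    refine ⟨v • y, ?_⟩
    change algebraMap A (Localization.Away f) f • (v • y) = y
    rw [← mul_smul, hv, one_smul]

lemma FBij.iota_bijective {H : Type*} [AddCommGroup H] [Module A H] (h : FBij f H) :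
    Function.Bijective (iota A (Localization.Away f) H) := by
  have hpow : ∀ n : ℕ, Function.Bijective (fun x : H => f ^ n • x) := by
    intro n
    induction n with
    | zero =>
      have : (fun x : H => f ^ 0 • x) = id := by funext x; simp
      rw [this]; exact Function.bijective_id
    | succ n ih =>
      have : (fun x : H => f ^ (n + 1) • x) = (fun x : H => f ^ n • x) ∘ (fun x : H => f • x) := by
        funext x; simp [pow_succ, mul_smul]
      rw [this]
      exact ih.comp h
  constructor
  · rw [injective_iff_map_eq_zero]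
    intro x hx
    rw [IsLocalizedModule.eq_zero_iff (Submonoid.powers f)] at hx
    obtain ⟨⟨_, n, rfl⟩, hn⟩ := hx
    have hn' : f ^ n • x = 0 := hn
    exact (hpow n).1 (by simpa using hn')
  · intro y
    obtain ⟨⟨x, ⟨_, n, rfl⟩⟩, hx⟩ := IsLocalizedModule.surj (Submonoid.powers f)
      (TensorProduct.mk A (Localization.Away f) H 1) y
    obtain ⟨x', hx'⟩ := (hpow n).2 x
    refine ⟨x', ?_⟩
    apply IsLocalizedModule.smul_injective (TensorProduct.mk A (Localization.Away f) H 1)
      (⟨f ^ n, n, rfl⟩ : Submonoid.powers f)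
    change (⟨f ^ n, n, rfl⟩ : Submonoid.powers f) • _ = (⟨f ^ n, n, rfl⟩ : Submonoid.powers f) • y
    rw [hx]
    change f ^ n • (iota A (Localization.Away f) H x') = _
    rw [← map_smul]
    exact congrArg _ hx'

end FBijLemmas

end Groth.Agent.Lib.Helper2.TorsExt
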