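import Mathlib.CategoryTheory.Triangulated.Functor
import Mathlib.CategoryTheory.Triangulated.Pretriangulated
import Mathlib.CategoryTheory.Triangulated.TriangleShift

/-!
# Dévissage for a triangulated functor

For a triangulated functor `L : C ⥤ D` and a fixed object `T`, the class of objects `Y` such that
`L` induces bijections `Hom(T, Y⟦j⟧) → Hom(L T, L (Y⟦j⟧))` for all `j` is closed under
"two out of three" in distinguished triangles.
-/

set_option autoImplicit false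

open CategoryTheory Limits Pretriangulated

namespace Groth.Agent.Lib.Helper2.TorsExt

variable {C D : Type*} [Category C] [Category D] [Preadditive C] [Preadditive D]
  [HasZeroObject C] [HasZeroObject D] [HasShift C ℤ] [HasShift D ℤ]
  [∀ n : ℤ, (shiftFunctor C n).Additive] [∀ n : ℤ, (shiftFunctor D n).Additive]
  [Pretriangulated C] [Pretriangulated D]
  (L : C ⥤ D) [L.CommShift ℤ] [L.IsTriangulated] [L.Additive] (T : C)

/-- `L` induces a bijection `Hom(T, Y) → Hom(L T, L Y)`. -/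
def QQ (Y : C) : Prop := Function.Bijective (fun g : T ⟶ Y => L.map g)

/-- `L` induces bijections `Hom(T, Y⟦j⟧) → Hom(L T, L (Y⟦j⟧))` for all `j`. -/
def PP (Y : C) : Prop := ∀ j : ℤ, QQ L T (Y⟦j⟧)

variable {L T}

lemma QQ.of_iso {Y Y' : C} (e : Y ≅ Y') (h : QQ L T Y) : QQ L T Y' := by
  constructor
  · intro g g' hgg
    have : L.map (g ≫ e.inv) = L.map (g' ≫ e.inv) := by
      simp only [Functor.map_comp]; exact congrArg (· ≫ L.map e.inv) hgg
    have h2 := h.1 this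
    calc g = (g ≫ e.inv) ≫ e.hom := by simp
      _ = (g' ≫ e.inv) ≫ e.hom := by rw [h2]
      _ = g' := by simp
  · intro k
    obtain ⟨g, hg⟩ := h.2 (k ≫ L.map e.inv)
    refine ⟨g ≫ e.hom, ?_⟩
    change L.map (g ≫ e.hom) = k
    have hg' : L.map g = k ≫ L.map e.inv := hg
    rw [Functor.map_comp, hg', Category.assoc, ← Functor.map_comp, e.inv_hom_id,
      CategoryTheory.Functor.map_id, Category.comp_id]

lemma PP.of_iso {Y Y' : C} (e : Y ≅ Y') (h : PP L T Y) : PP L T Y' :=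
  fun j => (h j).of_iso ((shiftFunctor C j).mapIso e)

lemma PP.shift {Y : C} (h : PP L T Y) (n : ℤ) : PP L T (Y⟦n⟧) :=
  fun j => (h (n + j)).of_iso ((shiftFunctorAdd' C n j (n + j) rfl).app Y)

lemma PP.of_shift {Y : C} (n : ℤ) (h : PP L T (Y⟦n⟧)) : PP L T Y :=
  (h.shift (-n)).of_iso ((shiftFunctorCompIsoId C n (-n) (by simp)).app Y)

lemma PP.zero (Y : C) (h : PP L T Y) : QQ L T Y :=
  (h 0).of_iso ((shiftFunctorZero C ℤ).app Y)

/-- The five lemma for the third vertex of a distinguished triangle. -/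
lemma QQ.five (Δ : Triangle C) (hΔ : Δ ∈ distTriang C)
    (h1 : Function.Surjective (fun g : T ⟶ Δ.obj₁ => L.map g))
    (h2 : QQ L T Δ.obj₂)
    (h4 : QQ L T (Δ.obj₁⟦(1 : ℤ)⟧))
    (h5 : Function.Injective (fun g : T ⟶ Δ.obj₂⟦(1 : ℤ)⟧ => L.map g)) :
    QQ L T Δ.obj₃ := by
  have hLΔ : L.mapTriangle.obj Δ ∈ distTriang D := L.map_distinguished Δ hΔ
  constructor
  · -- injectivity
    intro g g' hgg
    have hgg' : L.map g = L.map g' := hgg
    have h0 : L.map (g - g') = 0 := by rw [Functor.map_sub, hgg', sub_self]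
    have h3 : (g - g') ≫ Δ.mor₃ = 0 := by
      apply h4.1
      change L.map ((g - g') ≫ Δ.mor₃) = L.map 0
      rw [Functor.map_comp, h0, zero_comp, Functor.map_zero]
    obtain ⟨g₂, hg₂⟩ := Triangle.coyoneda_exact₃ Δ hΔ (g - g') h3
    have h6 : L.map g₂ ≫ L.map Δ.mor₂ = 0 := by
      rw [← Functor.map_comp, ← hg₂, h0]
    obtain ⟨k₁, hk₁⟩ := Triangle.coyoneda_exact₂ _ hLΔ (L.map g₂) h6
    obtain ⟨g₁, hg₁⟩ := h1 k₁
    have hg₁' : L.map g₁ = k₁ := hg₁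
    have h7 : g₂ = g₁ ≫ Δ.mor₁ := by
      apply h2.1
      change L.map g₂ = L.map (g₁ ≫ Δ.mor₁)
      rw [Functor.map_comp, hg₁', hk₁]
      rfl
    have h8 : g - g' = 0 := by
      rw [hg₂, h7, Category.assoc, comp_distTriang_mor_zero₁₂ _ hΔ, comp_zero]
    exact sub_eq_zero.1 h8
  · -- surjectivity
    intro k
    obtain ⟨g₄, hg₄⟩ := h4.2 (k ≫ L.map Δ.mor₃)
    have hg₄' : L.map g₄ = k ≫ L.map Δ.mor₃ := hg₄
    have h9 : g₄ ≫ Δ.mor₁⟦(1 : ℤ)⟧' = 0 := by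
      apply h5
      change L.map (g₄ ≫ Δ.mor₁⟦(1 : ℤ)⟧') = L.map 0
      rw [Functor.map_comp, hg₄', Category.assoc, ← Functor.map_comp,
        comp_distTriang_mor_zero₃₁ _ hΔ, Functor.map_zero, comp_zero, Functor.map_zero]
    obtain ⟨g₃, hg₃⟩ := Triangle.coyoneda_exact₁ Δ hΔ g₄ h9
    have h10 : (k - L.map g₃) ≫ (L.mapTriangle.obj Δ).mor₃ = 0 := by
      change (k - L.map g₃) ≫ (L.map Δ.mor₃ ≫ (L.commShiftIso (1 : ℤ)).hom.app Δ.obj₁) = 0
      rw [← Category.assoc, Preadditive.sub_comp, ← Functor.map_comp, ← hg₃, hg₄', sub_self,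
        zero_comp]
    obtain ⟨k₂, hk₂⟩ := Triangle.coyoneda_exact₃ _ hLΔ (k - L.map g₃) h10
    obtain ⟨g₂, hg₂⟩ := h2.2 k₂
    have hg₂' : L.map g₂ = k₂ := hg₂
    refine ⟨g₃ + g₂ ≫ Δ.mor₂, ?_⟩
    change L.map (g₃ + g₂ ≫ Δ.mor₂) = k
    rw [Functor.map_add, Functor.map_comp, hg₂']
    have h11 : k₂ ≫ L.map Δ.mor₂ = k - L.map g₃ := hk₂.symm
    have h12 : L.map g₃ + (k - L.map g₃) = k := by abel
    exact (congrArg (fun z => L.map g₃ + z) h11).trans h12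

/-- Two out of three: third vertex. -/
lemma PP.obj₃ (Δ : Triangle C) (hΔ : Δ ∈ distTriang C) (h₁ : PP L T Δ.obj₁) (h₂ : PP L T Δ.obj₂) :
    PP L T Δ.obj₃ := by
  intro j
  have hΔj := Triangle.shift_distinguished Δ hΔ j
  have e : ∀ (Y : C), (Y⟦j⟧)⟦(1 : ℤ)⟧ ≅ Y⟦j + 1⟧ :=
    fun Y => ((shiftFunctorAdd' C j 1 (j + 1) rfl).app Y).symm
  exact QQ.five ((Triangle.shiftFunctor C j).obj Δ) hΔj (h₁ j).2 (h₂ j)
    ((h₁ (j + 1)).of_iso (e Δ.obj₁).symm) ((h₂ (j + 1)).of_iso (e Δ.obj₂).symm).1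

/-- Two out of three: first vertex. -/
lemma PP.obj₁ (Δ : Triangle C) (hΔ : Δ ∈ distTriang C) (h₂ : PP L T Δ.obj₂) (h₃ : PP L T Δ.obj₃) :
    PP L T Δ.obj₁ :=
  PP.of_shift 1 (PP.obj₃ Δ.rotate (rot_of_distTriang _ hΔ) h₂ h₃)

/-- Two out of three: second vertex. -/
lemma PP.obj₂ (Δ : Triangle C) (hΔ : Δ ∈ distTriang C) (h₁ : PP L T Δ.obj₁) (h₃ : PP L T Δ.obj₃) :
    PP L T Δ.obj₂ :=
  PP.obj₃ Δ.invRotate (inv_rot_of_distTriang _ hΔ) (h₃.shift (-1)) h₁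

end Groth.Agent.Lib.Helper2.TorsExt
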