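import Groth.Agent.Lib.Helper2.TorsExt.HomologyBC
import Groth.Agent.Lib.Helper2.TorsExt.Devissage

/-!
# Objects of `D(A)` with `f`-power torsion cohomology / on which `f` acts bijectively
-/

set_option autoImplicit false
universe u

open CategoryTheory CategoryTheory.Limits DerivedCategory TensorProduct Pretriangulated

namespace Groth.Agent.Lib.Helper2.TorsExt

open Groth.Agent.Lib.Helper13 Groth.Agent.Lib.Helper13.Coind Groth.Agent.Lib.Helper13.DR
  Groth.Agent.Lib.Helper13.PC

attribute [local instance] HasDerivedCategory.standard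

variable {A : Type u} [CommRing A]

/-- All cohomology modules are `f`-power torsion. -/
def TorsD (f : A) (Y : Dual.D A) : Prop :=
  ∀ j : ℤ, FTors f ((homologyFunctor (ModuleCat.{u} A) j).obj Y)

/-- `f` acts bijectively on all cohomology modules. -/
def BijD (f : A) (Y : Dual.D A) : Prop :=
  ∀ j : ℤ, FBij f ((homologyFunctor (ModuleCat.{u} A) j).obj Y)

lemma TorsD.of_iso {f : A} {Y Y' : Dual.D A} (e : Y ≅ Y') (h : TorsD f Y) : TorsD f Y' :=
  fun j => FTors.of_linearEquiv f
    ((homologyFunctor (ModuleCat.{u} A) j).mapIso e).toLinearEquiv (h j)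

lemma BijD.of_iso {f : A} {Y Y' : Dual.D A} (e : Y ≅ Y') (h : BijD f Y) : BijD f Y' :=
  fun j => FBij.of_linearEquiv f
    ((homologyFunctor (ModuleCat.{u} A) j).mapIso e).toLinearEquiv (h j)

/-- `H^j(Y⟦n⟧) ≅ H^{n+j}(Y)`. -/
noncomputable def homologyShiftIso (Y : Dual.D A) (n j : ℤ) :
    (homologyFunctor (ModuleCat.{u} A) j).obj (Y⟦n⟧) ≅
      (homologyFunctor (ModuleCat.{u} A) (n + j)).obj Y :=
  ((homologyFunctor (ModuleCat.{u} A) 0).shiftIso n j (n + j) rfl).app Y

lemma TorsD.shift {f : A} {Y : Dual.D A} (h : TorsD f Y) (n : ℤ) : TorsD f (Y⟦n⟧) :=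
  fun j => FTors.of_linearEquiv f (homologyShiftIso Y n j).symm.toLinearEquiv (h (n + j))

lemma BijD.shift {f : A} {Y : Dual.D A} (h : BijD f Y) (n : ℤ) : BijD f (Y⟦n⟧) :=
  fun j => FBij.of_linearEquiv f (homologyShiftIso Y n j).symm.toLinearEquiv (h (n + j))

/-- Torsion cohomology: first vertex of a distinguished triangle. -/
lemma TorsD.obj₁ {f : A} (Δ : Triangle (Dual.D A)) (hΔ : Δ ∈ distTriang (Dual.D A))
    (h₂ : TorsD f Δ.obj₂) (h₃ : TorsD f Δ.obj₃) : TorsD f Δ.obj₁ := by
  intro j
  have hex := HomologySequence.exact₁ Δ hΔ (j - 1) j (by lia)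
  rw [ShortComplex.ShortExact.moduleCat_exact_iff_function_exact] at hex
  exact FTors.of_exact f _ _ hex (h₃ (j - 1)) (h₂ j)

section ResExt

variable (B : Type u) [CommRing B] [Algebra A B] [Module.Flat A B]

/-- `res (B ⊗ Y)`. -/
noncomputable abbrev resExtD (Y : Dual.D A) : Dual.D A :=
  (DRing.restrictD (algebraMap A B)).obj ((extD A B).obj Y)

/-- `H^j(res (B ⊗ Y)) ≃ B ⊗ H^j(Y)` as `A`-modules. -/
noncomputable def homologyResExtEquiv (Y : Dual.D A) (j : ℤ) :
    ((homologyFunctor (ModuleCat.{u} A) j).obj (resExtD B Y)) ≃ₗ[A]
      B ⊗[A] ((homologyFunctor (ModuleCat.{u} A) j).obj Y) :=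
  (homologyRestrictDIso (algebraMap A B) ((extD A B).obj Y) j ≪≫
    (ModuleCat.restrictScalars.{u} (algebraMap A B)).mapIso
      (homologyExtDIso A B Y j)).toLinearEquiv ≪≫ₗ resExtEquiv A B _

lemma TorsD.resExt {f : A} {Y : Dual.D A} (h : TorsD f Y) : TorsD f (resExtD B Y) :=
  fun j => FTors.of_linearEquiv f (homologyResExtEquiv B Y j).symm (FTors.tensor f B (h j))

lemma BijD.resExt {f : A} {Y : Dual.D A} (h : BijD f Y) : BijD f (resExtD B Y) :=
  fun j => FBij.of_linearEquiv f (homologyResExtEquiv B Y j).symm (FBij.tensor f B (h j))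

end ResExt

section Loc

variable (f : A)

instance : Module.Flat A (Localization.Away f) := IsLocalization.flat _ (Submonoid.powers f)

lemma FBij_restrictScalars (X : ModuleCat.{u} (Localization.Away f)) :
    FBij f ((ModuleCat.restrictScalars.{u} (algebraMap A (Localization.Away f))).obj X) := by
  have hu : IsUnit (algebraMap A (Localization.Away f) f) :=
    IsLocalization.map_units (Localization.Away f) (⟨f, Submonoid.mem_powers f⟩ : Submonoid.powers f)
  obtain ⟨v, hv⟩ := hu.exists_right_inv
  have hv' : v * algebraMap A (Localization.Away f) f = 1 := by rw [mul_comm]; exact hv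
  have hsm : ∀ x : ((ModuleCat.restrictScalars.{u} (algebraMap A (Localization.Away f))).obj X),
      f • x = (algebraMap A (Localization.Away f) f • (show X from x) : X) := fun x => rfl
  constructor
  · intro x y hxy
    have hxy' : (algebraMap A (Localization.Away f) f • (show X from x) : X) =
        algebraMap A (Localization.Away f) f • (show X from y) := hxy
    change (show X from x) = (show X from y)
    calc (show X from x) = (v * algebraMap A (Localization.Away f) f) • (show X from x) := by
          rw [hv', one_smul]
      _ = v • (algebraMap A (Localization.Away f) f • (show X from x)) := mul_smul _ _ _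
      _ = v • (algebraMap A (Localization.Away f) f • (show X from y)) := by rw [hxy']
      _ = (v * algebraMap A (Localization.Away f) f) • (show X from y) := (mul_smul _ _ _).symm
      _ = (show X from y) := by rw [hv', one_smul]
  · intro y
    refine ⟨(v • (show X from y) : X), ?_⟩
    change (algebraMap A (Localization.Away f) f • (v • (show X from y)) : X) = (show X from y)
    rw [← mul_smul, hv, one_smul]

/-- The localization `Y_f`. -/
noncomputable abbrev locD (Y : Dual.D A) : Dual.D A := resExtD (Localization.Away f) Y

lemma BijD_locD (Y : Dual.D A) : BijD f (locD f Y) :=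
  fun j => FBij.of_linearEquiv f
    (homologyRestrictDIso (algebraMap A (Localization.Away f))
      ((extD A (Localization.Away f)).obj Y) j).symm.toLinearEquiv
    (FBij_restrictScalars f _)

variable {f}

lemma BijD.isIso_unit {Y : Dual.D A} (h : BijD f Y) :
    IsIso ((extResAdj A (Localization.Away f)).unit.app Y) :=
  Groth.Agent.Lib.Helper2.TorsExt.isIso_unit A (Localization.Away f) Y (fun j =>
    isIso_unit_of_bijective A (Localization.Away f) _ (FBij.iota_bijective f (h j)))

/-- No nonzero maps from an `f`-power torsion module to an object on which `f` is bijective. -/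
lemma BijD.eq_zero {Y : Dual.D A} (h : BijD f Y) {M : Type u} [AddCommGroup M] [Module A M]
    (hM : FTors f M) (g : Dual.inD A M ⟶ Y) : g = 0 := by
  have hiso := h.isIso_unit
  have hz : IsZero ((extD A (Localization.Away f)).obj (Dual.inD A M)) := by
    have hsub : Subsingleton (Localization.Away f ⊗[A] M) := subsingleton_tensor_of_FTors f hM
    have h0 : IsZero (ModuleCat.of (Localization.Away f) (Localization.Away f ⊗[A] M)) :=
      ModuleCat.isZero_of_subsingleton _
    exact IsZero.of_iso
      ((DerivedCategory.singleFunctor (ModuleCat.{u} (Localization.Away f)) 0).map_isZero h0)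
      (flatBCSingleIso A (Localization.Away f) M)
  have h1 : (extD A (Localization.Away f)).map g = 0 := hz.eq_of_src _ _
  have h2 : g ≫ (extResAdj A (Localization.Away f)).unit.app Y = 0 := by
    have := (extResAdj A (Localization.Away f)).unit.naturality g
    simp only [Functor.id_obj, Functor.id_map, Functor.comp_obj, Functor.comp_map] at this
    rw [this, h1, Functor.map_zero, comp_zero]
  exact (cancel_mono ((extResAdj A (Localization.Away f)).unit.app Y)).1 (by rw [h2, zero_comp])

/-- The cocone of `Y → Y_f` has `f`-power torsion cohomology. -/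
lemma TorsD_cocone (Y C : Dual.D A) (c : C ⟶ Y) (w : locD f Y ⟶ C⟦(1 : ℤ)⟧)
    (hΔ : Triangle.mk c ((extResAdj A (Localization.Away f)).unit.app Y) w ∈
      distTriang (Dual.D A)) : TorsD f C := by
  have hLΔ := (extD A (Localization.Away f)).map_distinguished _ hΔ
  have hcounit := isIso_extResAdj_counit A (Localization.Away f) (Submonoid.powers f)
  have hiso : IsIso ((extD A (Localization.Away f)).map
      ((extResAdj A (Localization.Away f)).unit.app Y)) := by
    have h1 := (extResAdj A (Localization.Away f)).left_triangle_components Y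
    have : IsIso ((extD A (Localization.Away f)).map
        ((extResAdj A (Localization.Away f)).unit.app Y) ≫
        (extResAdj A (Localization.Away f)).counit.app ((extD A (Localization.Away f)).obj Y)) := by
      rw [h1]; exact IsIso.id _
    exact IsIso.of_isIso_comp_right _
      ((extResAdj A (Localization.Away f)).counit.app ((extD A (Localization.Away f)).obj Y))
  have hz : IsZero ((extD A (Localization.Away f)).obj C) :=
    (Triangle.isZero₁_iff_isIso₂ _ hLΔ).2 hiso
  intro j
  apply FTors.of_subsingleton_tensor
  have h0 : IsZero ((ModuleCat.extendScalars.{u, u, u} (algebraMap A (Localization.Away f))).obj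
      ((homologyFunctor (ModuleCat.{u} A) j).obj C)) :=
    IsZero.of_iso ((homologyFunctor (ModuleCat.{u} (Localization.Away f)) j).map_isZero hz)
      (homologyExtDIso A (Localization.Away f) C j).symm
  have := ModuleCat.subsingleton_of_isZero h0
  exact (extendScalarsEquiv (Localization.Away f) _).symm.toEquiv.subsingleton

end Loc

section Tors

variable (B : Type u) [CommRing B] [Algebra A B] [Module.Flat A B] (I : Ideal A)
  (hs : Function.Surjective
    ((Ideal.Quotient.mk (I.map (algebraMap A B))).comp (algebraMap A B)))
  (hk : RingHom.ker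
    ((Ideal.Quotient.mk (I.map (algebraMap A B))).comp (algebraMap A B)) = I)

include hs hk in
/-- If the cohomology of `Y` is torsion for a finite set of generators of `I`, then
`Y → res (B ⊗ Y)` is an isomorphism. -/
lemma isIso_unit_of_TorsD (S : Finset A) (hS : Ideal.span (S : Set A) = I) (Y : Dual.D A)
    (h : ∀ g ∈ S, TorsD g Y) : IsIso ((extResAdj A B).unit.app Y) := by
  apply Groth.Agent.Lib.Helper2.TorsExt.isIso_unit
  intro j
  apply isIso_unit_of_bijective
  apply iota_bijective_of_powerTorsion B I hs hk
  intro x
  have := powerTorsion_of_FTors S (fun g hg => h g hg j) x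
  rw [hS] at this
  exact this

end Tors

end Groth.Agent.Lib.Helper2.TorsExt
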