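import Groth.Agent.Lib.Helper2.TorsExt.Iso

set_option autoImplicit false
universe u
open CategoryTheory CategoryTheory.Limits Opposite

namespace Groth.Agent.Lib.Helper2.TorsExt

variable {C : Type u} [SmallCategory C] {J : GrothendieckTopology C}
  {G : Sheaf J AddCommGrpCat.{u}} (T : Tors.Torsor G)

/-- the difference `q - p` of two sections of a torsor -/
noncomputable def diff {U : Cᵒᵖ} (q p : T.P.obj.obj U) : G.obj.obj U :=
  (T.free_transitive p q).choose

theorem diff_vadd {U : Cᵒᵖ} (q p : T.P.obj.obj U) : T.vadd (diff T q p) p = q :=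
  (T.free_transitive p q).choose_spec.1

theorem eq_diff {U : Cᵒᵖ} {q p : T.P.obj.obj U} {g : G.obj.obj U} (h : T.vadd g p = q) :
    g = diff T q p :=
  (T.free_transitive p q).choose_spec.2 g h

theorem map_diff {U V : Cᵒᵖ} (f : U ⟶ V) (q p : T.P.obj.obj U) :
    G.obj.map f (diff T q p) = diff T (T.P.obj.map f q) (T.P.obj.map f p) := by
  apply eq_diff
  rw [← T.map_vadd, diff_vadd]

theorem diff_vadd_left {U : Cᵒᵖ} (g : G.obj.obj U) (q p : T.P.obj.obj U) :
    diff T (T.vadd g q) p = g + diff T q p := by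
  symm
  apply eq_diff
  rw [T.add_vadd, diff_vadd]

theorem diff_vadd_right {U : Cᵒᵖ} (g : G.obj.obj U) (q p : T.P.obj.obj U) :
    diff T q (T.vadd g p) = diff T q p - g := by
  symm
  apply eq_diff
  rw [← T.add_vadd, sub_add_cancel, diff_vadd]

/-- ambient group -/
abbrev Amb (U : C) : Type u :=
  ℤ × (∀ (V : C) (_ : V ⟶ U), T.P.obj.obj (op V) → G.obj.obj (op V))

/-- the subgroup of affine maps `P → G` -/
def affSub (U : C) : AddSubgroup (Amb T U) where
  carrier := {x | (∀ (V W : C) (f : V ⟶ U) (h : W ⟶ V) (p : T.P.obj.obj (op V)),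
      G.obj.map h.op (x.2 V f p) = x.2 W (h ≫ f) (T.P.obj.map h.op p)) ∧
    (∀ (V : C) (f : V ⟶ U) (g : G.obj.obj (op V)) (p : T.P.obj.obj (op V)),
      x.2 V f (T.vadd g p) = x.1 • g + x.2 V f p)}
  zero_mem' := by
    refine ⟨fun V W f h p => ?_, fun V f g p => ?_⟩
    · show G.obj.map h.op 0 = 0
      rw [map_zero]
    · show (0 : G.obj.obj (op V)) = (0 : ℤ) • g + 0
      rw [zero_smul, add_zero]
  add_mem' := by
    rintro x y ⟨hx1, hx2⟩ ⟨hy1, hy2⟩
    refine ⟨fun V W f h p => ?_, fun V f g p => ?_⟩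
    · show G.obj.map h.op (x.2 V f p + y.2 V f p) = x.2 W (h ≫ f) _ + y.2 W (h ≫ f) _
      rw [map_add, hx1, hy1]
    · show x.2 V f (T.vadd g p) + y.2 V f (T.vadd g p) =
        (x.1 + y.1) • g + (x.2 V f p + y.2 V f p)
      rw [hx2, hy2, add_smul]
      abel
  neg_mem' := by
    rintro x ⟨hx1, hx2⟩
    refine ⟨fun V W f h p => ?_, fun V f g p => ?_⟩
    · show G.obj.map h.op (-(x.2 V f p)) = -(x.2 W (h ≫ f) _)
      rw [map_neg, hx1]
    · show -(x.2 V f (T.vadd g p)) = (-x.1) • g + -(x.2 V f p)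
      rw [hx2, neg_smul]
      abel

/-- restriction of affine maps -/
def resHom {U V : C} (k : V ⟶ U) : affSub T U →+ affSub T V where
  toFun x := ⟨(x.1.1, fun W f => x.1.2 W (f ≫ k)), by
    obtain ⟨h1, h2⟩ := x.2
    refine ⟨fun V' W f h p => ?_, fun V' f g p => ?_⟩
    · show G.obj.map h.op (x.1.2 V' (f ≫ k) p) = x.1.2 W ((h ≫ f) ≫ k) _
      rw [h1, Category.assoc]
    · exact h2 V' (f ≫ k) g p⟩
  map_zero' := rfl
  map_add' _ _ := rfl

/-- the presheaf of affine maps -/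
def E₀ : Cᵒᵖ ⥤ AddCommGrpCat.{u} where
  obj U := AddCommGrpCat.of (affSub T U.unop)
  map {U V} k := AddCommGrpCat.ofHom (resHom T k.unop)
  map_id U := by
    refine AddCommGrpCat.hom_ext (AddMonoidHom.ext fun x => Subtype.ext (Prod.ext rfl ?_))
    funext W f
    show x.1.2 W (f ≫ 𝟙 _) = x.1.2 W f
    rw [Category.comp_id]
  map_comp {U V W} k k' := by
    refine AddCommGrpCat.hom_ext (AddMonoidHom.ext fun x => Subtype.ext (Prod.ext rfl ?_))
    funext W' f
    show x.1.2 W' (f ≫ (k'.unop ≫ k.unop)) = x.1.2 W' ((f ≫ k'.unop) ≫ k.unop)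
    rw [Category.assoc]

theorem Gmap_comp {U V W : C} (f : V ⟶ U) (h : W ⟶ V) (g : G.obj.obj (op U)) :
    G.obj.map (h ≫ f).op g = G.obj.map h.op (G.obj.map f.op g) := by
  rw [op_comp, Functor.map_comp]
  rfl

theorem Pmap_comp {U V W : C} (f : V ⟶ U) (h : W ⟶ V) (p : T.P.obj.obj (op U)) :
    T.P.obj.map (h ≫ f).op p = T.P.obj.map h.op (T.P.obj.map f.op p) := by
  rw [op_comp, Functor.map_comp]
  rfl

/-- constants -/
def ι₀app (U : C) : G.obj.obj (op U) →+ affSub T U where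
  toFun g := ⟨(0, fun V f _ => G.obj.map f.op g), by
    refine ⟨fun V W f h p => ?_, fun V f g' p => ?_⟩
    · show G.obj.map h.op (G.obj.map f.op g) = G.obj.map (h ≫ f).op g
      rw [Gmap_comp]
    · show G.obj.map f.op g = (0 : ℤ) • g' + G.obj.map f.op g
      rw [zero_smul, zero_add]⟩
  map_zero' := by
    refine Subtype.ext (Prod.ext rfl ?_)
    funext V f p
    show G.obj.map f.op 0 = 0
    rw [map_zero]
  map_add' g g' := by
    refine Subtype.ext (Prod.ext (zero_add 0).symm ?_)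
    funext V f p
    show G.obj.map f.op (g + g') = G.obj.map f.op g + G.obj.map f.op g'
    rw [map_add]

/-- the inclusion of constants -/
def ι₀ : G.obj ⟶ E₀ T where
  app U := AddCommGrpCat.ofHom (ι₀app T U.unop)
  naturality U V k := by
    refine AddCommGrpCat.hom_ext (AddMonoidHom.ext fun g => Subtype.ext (Prod.ext rfl ?_))
    funext W f p
    show G.obj.map f.op (G.obj.map k g) = G.obj.map (f ≫ k.unop).op g
    rw [Gmap_comp]
    rfl

/-- the slope -/
def π₀app (U : C) : affSub T U →+ ULift.{u} ℤ where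
  toFun x := ULift.up x.1.1
  map_zero' := rfl
  map_add' _ _ := rfl

/-- the slope map -/
def π₀ : E₀ T ⟶ Zp C where
  app U := AddCommGrpCat.ofHom (π₀app T U.unop)
  naturality U V k := rfl

theorem ι₀_π₀ : ι₀ T ≫ π₀ T = 0 := by
  ext U g
  rfl

/-- the affine map `q ↦ q - p` -/
noncomputable def θ₀app (U : C) (p : T.P.obj.obj (op U)) : affSub T U :=
  ⟨(1, fun V f q => diff T q (T.P.obj.map f.op p)), by
    refine ⟨fun V W f h q => ?_, fun V f g q => ?_⟩
    · show G.obj.map h.op (diff T q (T.P.obj.map f.op p)) =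
        diff T (T.P.obj.map h.op q) (T.P.obj.map (h ≫ f).op p)
      rw [map_diff, Pmap_comp]
    · show diff T (T.vadd g q) (T.P.obj.map f.op p) =
        (1 : ℤ) • g + diff T q (T.P.obj.map f.op p)
      rw [diff_vadd_left, one_smul]⟩

theorem resHom_θ₀app {U V : C} (k : V ⟶ U) (p : T.P.obj.obj (op U)) :
    resHom T k (θ₀app T U p) = θ₀app T V (T.P.obj.map k.op p) := by
  refine Subtype.ext (Prod.ext rfl ?_)
  funext W f q
  show diff T q (T.P.obj.map (f ≫ k).op p) = diff T q (T.P.obj.map f.op (T.P.obj.map k.op p))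
  rw [Pmap_comp]

theorem θ₀app_vadd (U : C) (g : G.obj.obj (op U)) (p : T.P.obj.obj (op U)) :
    θ₀app T U (T.vadd g p) = ι₀app T U (-g) + θ₀app T U p := by
  refine Subtype.ext (Prod.ext (zero_add 1).symm ?_)
  funext V f q
  show diff T q (T.P.obj.map f.op (T.vadd g p)) =
    G.obj.map f.op (-g) + diff T q (T.P.obj.map f.op p)
  rw [T.map_vadd, diff_vadd_right, map_neg]
  abel

theorem π₀app_θ₀app (U : C) (p : T.P.obj.obj (op U)) : π₀app T U (θ₀app T U p) = ULift.up 1 := rfl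

theorem isSheaf_forget (G : Sheaf J AddCommGrpCat.{u}) :
    Presieve.IsSheaf J (G.obj ⋙ forget AddCommGrpCat.{u}) :=
  (isSheaf_iff_isSheaf_of_type J _).1
    ((Presheaf.isSheaf_iff_isSheaf_forget J G.obj (forget AddCommGrpCat.{u})).1 G.property)

theorem ι₀app_injective (U : C) : Function.Injective (ι₀app T U) := by
  rw [injective_iff_map_eq_zero]
  intro g hg
  obtain ⟨R, hR, hne⟩ := T.locally_nonempty U
  have h2 : ∀ (V : C) (f : V ⟶ U) (p : T.P.obj.obj (op V)), G.obj.map f.op g = 0 := by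
    intro V f p
    have := congrFun (congrFun (congrFun (congrArg (fun x => x.1.2) hg) V) f) p
    exact this
  refine ((isSheaf_forget G) R hR).isSeparatedFor.ext ?_
  intro V f hf
  obtain ⟨p⟩ := hne f hf
  show G.obj.map f.op g = G.obj.map f.op 0
  rw [h2 V f p, map_zero]

theorem exists_of_slope_zero (U : C) (x : affSub T U) (hx : x.1.1 = 0) :
    ∃ g : G.obj.obj (op U), ι₀app T U g = x := by
  obtain ⟨R, hR, hne⟩ := T.locally_nonempty U
  obtain ⟨h1, h2⟩ := x.2
  have hG := isSheaf_forget G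
  -- invariance
  have hinv : ∀ (V : C) (f : V ⟶ U) (p q : T.P.obj.obj (op V)), x.1.2 V f q = x.1.2 V f p := by
    intro V f p q
    rw [← diff_vadd T q p, h2, hx, zero_smul, zero_add]
  let c : Presieve.FamilyOfElements (G.obj ⋙ forget AddCommGrpCat.{u}) R.arrows :=
    fun V f hf => x.1.2 V f (hne f hf).some
  have hc : c.Compatible := by
    intro Y₁ Y₂ Z g₁ g₂ f₁ f₂ hf₁ hf₂ e
    show G.obj.map g₁.op (x.1.2 Y₁ f₁ _) = G.obj.map g₂.op (x.1.2 Y₂ f₂ _)
    rw [h1, h1]
    have key : ∀ (k k' : Z ⟶ U) (hk : k = k') (p p' : T.P.obj.obj (op Z)),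
        x.1.2 Z k p = x.1.2 Z k' p' := by
      intro k k' hk p p'
      subst hk
      exact hinv Z k p' p
    exact key _ _ e _ _
  refine ⟨(hG R hR).amalgamate c hc, ?_⟩
  have hglue : ∀ ⦃V : C⦄ (f : V ⟶ U) (hf : R f),
      G.obj.map f.op ((hG R hR).amalgamate c hc) = c f hf := fun V f hf =>
    (hG R hR).valid_glue hc f hf
  refine Subtype.ext (Prod.ext hx.symm ?_)
  funext V f p
  show G.obj.map f.op ((hG R hR).amalgamate c hc) = x.1.2 V f p
  refine (hG (R.pullback f) (J.pullback_stable f hR)).isSeparatedFor.ext ?_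
  intro W h hh
  show G.obj.map h.op (G.obj.map f.op _) = G.obj.map h.op (x.1.2 V f p)
  rw [← Gmap_comp, hglue (h ≫ f) hh, h1]
  exact hinv W (h ≫ f) _ _

end Groth.Agent.Lib.Helper2.TorsExt
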