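import Groth.Agent.Lib.Helper2.TorsExt.Aff
import Groth.Agent.Lib.Helper22.SheafExact

set_option autoImplicit false
universe u
open CategoryTheory CategoryTheory.Limits Opposite

namespace Groth.Agent.Lib.Helper2.TorsExt

variable {C : Type u} [SmallCategory C] {J : GrothendieckTopology C}
  {G : Sheaf J AddCommGrpCat.{u}} (T : Tors.Torsor G)

/-- the sheaf of affine maps -/
noncomputable abbrev E : Sheaf J AddCommGrpCat.{u} := (presheafToSheaf J AddCommGrpCat.{u}).obj (E₀ T)

/-- constants -/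
noncomputable def aE : G ⟶ E T := ⟨ι₀ T ≫ toSheafify J (E₀ T)⟩

/-- slope -/
noncomputable def bE : E T ⟶ Zc J := (presheafToSheaf J AddCommGrpCat.{u}).map (π₀ T)

theorem aE_bE : aE T ≫ bE T = 0 := by
  apply ObjectProperty.hom_ext
  show (ι₀ T ≫ toSheafify J (E₀ T)) ≫ sheafifyMap J (π₀ T) = 0
  rw [Category.assoc, ← toSheafify_naturality, ← Category.assoc, ι₀_π₀, zero_comp]

theorem isLocallySurjective_π₀ : Presheaf.IsLocallySurjective J (π₀ T) := by
  refine ⟨fun {U} n => ?_⟩
  obtain ⟨R, hR, hne⟩ := T.locally_nonempty U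
  refine J.superset_covering ?_ hR
  intro V f hf
  obtain ⟨p⟩ := hne f hf
  refine ⟨((n : ULift.{u} ℤ).down : ℤ) • θ₀app T V p, ?_⟩
  show π₀app T V (((n : ULift.{u} ℤ).down : ℤ) • θ₀app T V p) = n
  rw [map_zsmul, π₀app_θ₀app]
  apply ULift.ext
  simp

theorem mono_ι₀ : Mono (ι₀ T) := by
  haveI : ∀ U, Mono ((ι₀ T).app U) := fun U =>
    (AddCommGrpCat.mono_iff_injective _).2 (ι₀app_injective T U.unop)
  exact NatTrans.mono_of_mono_app _

theorem exact₀ : (ShortComplex.mk (ι₀ T) (π₀ T) (ι₀_π₀ T)).Exact := by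
  apply Groth.Agent.Lib.Helper22.SheafExact.exact_of_evaluation
  intro U
  rw [ShortComplex.ab_exact_iff]
  intro x hx
  have hx' : (x : affSub T U.unop).1.1 = 0 := congrArg ULift.down hx
  obtain ⟨g, hg⟩ := exists_of_slope_zero T U.unop x hx'
  exact ⟨g, hg⟩

theorem shortExact : (ShortComplex.mk (aE T) (bE T) (aE_bE T)).ShortExact := by
  let F := presheafToSheaf J AddCommGrpCat.{u}
  let S₀ := ShortComplex.mk (ι₀ T) (π₀ T) (ι₀_π₀ T)
  have hex : (S₀.map F).Exact := (exact₀ T).map F
  haveI := mono_ι₀ T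
  have hm : Mono (S₀.map F).f := inferInstanceAs (Mono (F.map (ι₀ T)))
  have he : Epi (S₀.map F).g :=
    (Sheaf.isLocallySurjective_iff_epi' AddCommGrpCat.{u} (F.map (π₀ T))).1
      ((Presheaf.isLocallySurjective_presheafToSheaf_map_iff J (π₀ T)).2 (isLocallySurjective_π₀ T))
  have hS' : (S₀.map F).ShortExact := ShortComplex.ShortExact.mk' hex hm he
  let adj := sheafificationAdjunction J AddCommGrpCat.{u}
  have hcomm : adj.counit.app G ≫ aE T = F.map (ι₀ T) := by
    apply (adj.homEquiv G.obj (E T)).injective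
    have tri : adj.unit.app G.obj ≫ (sheafToPresheaf J AddCommGrpCat.{u}).map (adj.counit.app G) =
        𝟙 G.obj := adj.right_triangle_components G
    rw [Adjunction.homEquiv_unit, Adjunction.homEquiv_unit, Functor.map_comp, ← Category.assoc,
      tri, Category.id_comp]
    exact (toSheafify_naturality J (ι₀ T))
  let e : S₀.map F ≅ ShortComplex.mk (aE T) (bE T) (aE_bE T) :=
    ShortComplex.isoMk ((asIso adj.counit).app G) (Iso.refl _) (Iso.refl _)
      (by
        show adj.counit.app G ≫ aE T = F.map (ι₀ T) ≫ 𝟙 _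
        rw [Category.comp_id]; exact hcomm)
      (by
        show 𝟙 _ ≫ bE T = F.map (π₀ T) ≫ 𝟙 _
        rw [Category.comp_id, Category.id_comp]; rfl)
  exact ShortComplex.shortExact_of_iso e hS'

end Groth.Agent.Lib.Helper2.TorsExt
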