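import Groth.Prelude.Def_Tors
import Groth.Agent.Lib.Helper17.ExtRealize
import Groth.Agent.Lib.Helper2.ExtIso
import Mathlib

set_option autoImplicit false
universe u
open CategoryTheory CategoryTheory.Limits Opposite

namespace Groth.Agent.Lib.Helper2.TorsExt

variable {C : Type u} [SmallCategory C] {J : GrothendieckTopology C}

/-- the constant presheaf `ℤ` -/
abbrev Zp (C : Type u) [SmallCategory C] : Cᵒᵖ ⥤ AddCommGrpCat.{u} :=
  (Functor.const Cᵒᵖ).obj (AddCommGrpCat.of (ULift.{u} ℤ))

/-- the constant sheaf `ℤ` -/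
noncomputable abbrev Zc (J : GrothendieckTopology C) : Sheaf J AddCommGrpCat.{u} :=
  (presheafToSheaf J AddCommGrpCat.{u}).obj (Zp C)

theorem Zc_eq (J : GrothendieckTopology C) :
    (constantSheaf J AddCommGrpCat.{u}).obj (AddCommGrpCat.of (ULift.{u} ℤ)) = Zc J := rfl

/-- the sheafification unit -/
noncomputable def η (J : GrothendieckTopology C) : Zp C ⟶ (Zc J).obj := toSheafify J (Zp C)

/-- the section `1` of the constant sheaf -/
noncomputable def one (J : GrothendieckTopology C) (U : Cᵒᵖ) : (Zc J).obj.obj U :=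
  (η J).app U (ULift.up 1)

theorem map_one {U V : Cᵒᵖ} (f : U ⟶ V) : (Zc J).obj.map f (one J U) = one J V := by
  have := NatTrans.naturality_apply (η J) f (ULift.up 1)
  exact this.symm

section exact

variable {S : ShortComplex (Sheaf J AddCommGrpCat.{u})} (hS : S.ShortExact)

include hS in
theorem exact_app (U : Cᵒᵖ) (e : S.X₂.obj.obj U) (he : S.g.hom.app U e = 0) :
    ∃ g : S.X₁.obj.obj U, S.f.hom.app U g = e := by
  let Γ : Sheaf J AddCommGrpCat.{u} ⥤ AddCommGrpCat.{u} :=
    sheafToPresheaf J AddCommGrpCat.{u} ⋙ (evaluation _ _).obj U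
  have h1 : (S.map Γ).Exact :=
    hS.exact.map_of_mono_of_preservesKernel Γ hS.mono_f inferInstance
  rw [ShortComplex.ab_exact_iff] at h1
  exact h1 e he

include hS in
theorem f_injective (U : Cᵒᵖ) : Function.Injective (S.f.hom.app U) := by
  let Γ : Sheaf J AddCommGrpCat.{u} ⥤ AddCommGrpCat.{u} :=
    sheafToPresheaf J AddCommGrpCat.{u} ⋙ (evaluation _ _).obj U
  haveI := hS.mono_f
  have : Mono (Γ.map S.f) := inferInstance
  exact (AddCommGrpCat.mono_iff_injective _).1 this

include hS in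
theorem g_locally_surjective (U : C) (z : S.X₃.obj.obj (op U)) :
    ∃ R ∈ J U, ∀ ⦃V : C⦄ (f : V ⟶ U), R f →
      ∃ e : S.X₂.obj.obj (op V), S.g.hom.app _ e = S.X₃.obj.map f.op z := by
  haveI := hS.epi_g
  have h := (Sheaf.isLocallySurjective_iff_epi' AddCommGrpCat.{u} S.g).2 inferInstance
  refine ⟨_, h.imageSieve_mem z, fun V f hf => ?_⟩
  exact hf

end exact

end Groth.Agent.Lib.Helper2.TorsExt
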