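import Groth.Agent.Lib.Helper2.TorsExt.AffSh

set_option autoImplicit false
universe u
open CategoryTheory CategoryTheory.Limits Opposite

namespace Groth.Agent.Lib.Helper2.TorsExt

variable {C : Type u} [SmallCategory C] {J : GrothendieckTopology C}
  {G : Sheaf J AddCommGrpCat.{u}} (T : Tors.Torsor G)

theorem bE_toSheafify (U : Cᵒᵖ) (x : (E₀ T).obj U) :
    (bE T).hom.app U ((toSheafify J (E₀ T)).app U x) = (η J).app U ((π₀ T).app U x) := by
  have h := congrArg (fun t => (ConcreteCategory.hom (t.app U)) x) (toSheafify_naturality J (π₀ T))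
  exact h.symm

/-- the torsor of the extension -/
noncomputable abbrev T' : Tors.Torsor G := torsorOfExt (aE T) (bE T) (aE_bE T) (shortExact T)

/-- the comparison map -/
noncomputable def θ : T.P.obj ⟶ (T' T).P.obj where
  app U := TypeCat.ofHom (fun p => ⟨(toSheafify J (E₀ T)).app U (θ₀app T U.unop p), by
    show (bE T).hom.app U ((toSheafify J (E₀ T)).app U (θ₀app T U.unop p)) = one J U
    rw [bE_toSheafify]
    rfl⟩)
  naturality U V k := by
    ext p
    apply Subtype.ext
    show (toSheafify J (E₀ T)).app V (θ₀app T V.unop (T.P.obj.map k p)) =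
      (E T).obj.map k ((toSheafify J (E₀ T)).app U (θ₀app T U.unop p))
    rw [← NatTrans.naturality_apply (toSheafify J (E₀ T)) k]
    congr 1
    exact (resHom_θ₀app T k.unop p).symm

theorem hθ (U : Cᵒᵖ) (g : G.obj.obj U) (p : T.P.obj.obj U) :
    (θ T).app U (T.vadd g p) = (T' T).vadd (-g) ((θ T).app U p) := by
  apply Subtype.ext
  show (toSheafify J (E₀ T)).app U (θ₀app T U.unop (T.vadd g p)) =
    (toSheafify J (E₀ T)).app U ((ι₀ T).app U (-g)) +
      (toSheafify J (E₀ T)).app U (θ₀app T U.unop p)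
  rw [← map_add]
  congr 1
  exact θ₀app_vadd T U.unop g p

theorem hasSection_of_subsingleton
    (h : Subsingleton (Abelian.Ext.{u} (Zc J) G 1)) : T.HasSection := by
  apply hasSection_of_hasSection T (T' T) (θ T) (hθ T)
  have h0 : (shortExact T).extClass = 0 := Subsingleton.elim _ _
  have h1 : (Abelian.Ext.mk₀ (𝟙 (Zc J))).comp (shortExact T).extClass (zero_add 1) = 0 := by
    rw [h0, Abelian.Ext.comp_zero]
  obtain ⟨x₂, hx₂⟩ := Abelian.Ext.covariant_sequence_exact₃ (Zc J) (shortExact T)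
    (Abelian.Ext.mk₀ (𝟙 (Zc J))) (zero_add 1) h1
  obtain ⟨σ, rfl⟩ := (Abelian.Ext.mk₀_bijective _ _).2 x₂
  dsimp at hx₂
  rw [Abelian.Ext.mk₀_comp_mk₀] at hx₂
  have hσ : σ ≫ bE T = 𝟙 _ := (Abelian.Ext.mk₀_bijective _ _).1 hx₂
  exact hasSection_of_section (aE T) (bE T) (aE_bE T) (shortExact T) σ hσ

theorem subsingleton_of_forall_hasSection (h : ∀ T : Tors.Torsor G, T.HasSection) :
    Subsingleton (Abelian.Ext.{u} (Zc J) G 1) := by
  refine subsingleton_of_forall_eq 0 (fun x => ?_)
  obtain ⟨N, a, b, w, hS, rfl⟩ := Groth.Agent.Lib.Helper17.ExtRealize.exists_extClass x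
  obtain ⟨σ, hσ⟩ := exists_section_of_hasSection a b w hS (h _)
  let sp := ShortComplex.Splitting.ofExactOfSection _ hS.exact σ hσ hS.mono_f
  exact Groth.Agent.Lib.Helper2.ExtIso.extClass_eq_zero_of_retraction a b w hS sp.r sp.f_r

end Groth.Agent.Lib.Helper2.TorsExt
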