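import Groth.Agent.Lib.Helper2.TorsExt.UnitIso
import Groth.Agent.Lib.Helper2.TorsExt.TorsAlg

/-!
# Cohomology of `B ⊗ Y` and of restrictions, objectwise
-/

set_option autoImplicit false
universe u

open CategoryTheory CategoryTheory.Limits DerivedCategory TensorProduct

namespace Groth.Agent.Lib.Helper2.TorsExt

open Groth.Agent.Lib.Helper13 Groth.Agent.Lib.Helper13.Coind Groth.Agent.Lib.Helper13.DR
  Groth.Agent.Lib.Helper13.PC

attribute [local instance] HasDerivedCategory.standard

section

variable (A B : Type u) [CommRing A] [CommRing B] [Algebra A B] [Module.Flat A B]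

/-- `H^j(B ⊗ Y) ≅ B ⊗ H^j(Y)`. -/
noncomputable def homologyExtDIso (Y : Dual.D A) (j : ℤ) :
    (homologyFunctor (ModuleCat.{u} B) j).obj ((extD A B).obj Y) ≅
      (ModuleCat.extendScalars.{u, u, u} (algebraMap A B)).obj
        ((homologyFunctor (ModuleCat.{u} A) j).obj Y) :=
  (homologyFunctor (ModuleCat.{u} B) j).mapIso
      ((extD A B).mapIso (Q.objObjPreimageIso Y).symm ≪≫ flatBCQIso A B (Q.objPreimage Y)) ≪≫
    homologyQIso _ j ≪≫ extendCxHomologyIso A B (Q.objPreimage Y) j ≪≫
    (ModuleCat.extendScalars.{u, u, u} (algebraMap A B)).mapIso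
      ((homologyQIso (Q.objPreimage Y) j).symm ≪≫
        (homologyFunctor (ModuleCat.{u} A) j).mapIso (Q.objObjPreimageIso Y))

end

section

variable {A B : Type u} [CommRing A] [CommRing B] (φ : A →+* B)

/-- `H^j(res Z) ≅ res H^j(Z)`. -/
noncomputable def homologyRestrictDIso (Z : Dual.D B) (j : ℤ) :
    (homologyFunctor (ModuleCat.{u} A) j).obj ((DRing.restrictD φ).obj Z) ≅
      (ModuleCat.restrictScalars.{u} φ).obj ((homologyFunctor (ModuleCat.{u} B) j).obj Z) :=
  (homologyFunctor (ModuleCat.{u} A) j).mapIso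
      ((DRing.restrictD φ).mapIso (Q.objObjPreimageIso Z).symm ≪≫
        restrictDQIso φ (Q.objPreimage Z)) ≪≫
    homologyQIso _ j ≪≫ restrictCxHomologyIso φ (Q.objPreimage Z) j ≪≫
    (ModuleCat.restrictScalars.{u} φ).mapIso
      ((homologyQIso (Q.objPreimage Z) j).symm ≪≫
        (homologyFunctor (ModuleCat.{u} B) j).mapIso (Q.objObjPreimageIso Z))

end

section

variable (A B : Type u) [CommRing A] [CommRing B] [Algebra A B]

/-- The `A`-module underlying `res (ext H)` is `B ⊗ H`. -/
noncomputable def resExtEquiv (H : ModuleCat.{u} A) :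
    ((ModuleCat.restrictScalars.{u} (algebraMap A B)).obj
      ((ModuleCat.extendScalars.{u, u, u} (algebraMap A B)).obj H)) ≃ₗ[A] B ⊗[A] H :=
  { (extendScalarsEquiv B H).toAddEquiv with
    map_smul' := fun a x => by
      change (extendScalarsEquiv B H) ((algebraMap A B a) • (show
        ((ModuleCat.extendScalars.{u, u, u} (algebraMap A B)).obj H) from x)) = _
      rw [map_smul, algebraMap_smul]
      rfl }

lemma resExtEquiv_unit (H : ModuleCat.{u} A) (h : H) :
    resExtEquiv A B H (((mAdj A B).unit.app H).hom h) = iota A B H h := rfl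

/-- The unit `H → res (ext H)` is an isomorphism when `H → B ⊗ H` is bijective. -/
lemma isIso_unit_of_bijective (H : ModuleCat.{u} A) (h : Function.Bijective (iota A B H)) :
    IsIso ((mAdj A B).unit.app H) := by
  rw [ConcreteCategory.isIso_iff_bijective]
  have : (fun x => resExtEquiv A B H (((mAdj A B).unit.app H).hom x)) = iota A B H := by
    funext x; exact resExtEquiv_unit A B H x
  have h2 : Function.Bijective (fun x => resExtEquiv A B H (((mAdj A B).unit.app H).hom x)) := by
    rw [this]; exact h
  exact (Function.Bijective.of_comp_iff' (resExtEquiv A B H).bijective _).1 h2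

end

end Groth.Agent.Lib.Helper2.TorsExt
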