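import Groth.Agent.Lib.Helper2.TorsExt.OfExt

set_option autoImplicit false
universe u
open CategoryTheory CategoryTheory.Limits Opposite

namespace Groth.Agent.Lib.Helper2.TorsExt

variable {C : Type u} [SmallCategory C] {J : GrothendieckTopology C}
  {G : Sheaf J AddCommGrpCat.{u}}

section iso

variable (T T' : Tors.Torsor G) (θ : T.P.obj ⟶ T'.P.obj)
  (hθ : ∀ (U : Cᵒᵖ) (g : G.obj.obj U) (p : T.P.obj.obj U),
    θ.app U (T.vadd g p) = T'.vadd (-g) (θ.app U p))

include hθ in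
theorem θ_injective (U : Cᵒᵖ) : Function.Injective (θ.app U) := by
  intro p q hpq
  obtain ⟨g, hg, -⟩ := T.free_transitive p q
  have h1 : T'.vadd (-g) (θ.app U p) = θ.app U p := by
    rw [← hθ, hg, hpq]
  obtain ⟨g₀, -, hu⟩ := T'.free_transitive (θ.app U p) (θ.app U p)
  have h2 : -g = g₀ := hu _ h1
  have h3 : (0 : G.obj.obj U) = g₀ := hu _ (T'.zero_vadd _)
  have h4 : g = 0 := by
    have : -g = 0 := h2.trans h3.symm
    exact neg_eq_zero.1 this
  rw [← hg, h4, T.zero_vadd]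

include hθ in
theorem exists_preimage_of_nonempty (U : Cᵒᵖ) (s' : T'.P.obj.obj U) (h : Nonempty (T.P.obj.obj U)) :
    ∃ p : T.P.obj.obj U, θ.app U p = s' := by
  obtain ⟨p₀⟩ := h
  obtain ⟨g, hg, -⟩ := T'.free_transitive (θ.app U p₀) s'
  refine ⟨T.vadd (-g) p₀, ?_⟩
  rw [hθ, neg_neg, hg]

include hθ in
theorem exists_preimage (U : C) (s' : T'.P.obj.obj (op U)) :
    ∃ p : T.P.obj.obj (op U), θ.app (op U) p = s' := by
  obtain ⟨R, hR, hne⟩ := T.locally_nonempty U
  have hP : Presieve.IsSheaf J T.P.obj := (isSheaf_iff_isSheaf_of_type J _).1 T.P.property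
  have hP' : Presieve.IsSheaf J T'.P.obj := (isSheaf_iff_isSheaf_of_type J _).1 T'.P.property
  have hex : ∀ ⦃V : C⦄ (f : V ⟶ U), R f → ∃ p : T.P.obj.obj (op V),
      θ.app (op V) p = T'.P.obj.map f.op s' := fun V f hf =>
    exists_preimage_of_nonempty T T' θ hθ (op V) _ (hne f hf)
  let x : Presieve.FamilyOfElements T.P.obj R.arrows := fun V f hf => (hex f hf).choose
  have hx : ∀ ⦃V : C⦄ (f : V ⟶ U) (hf : R f), θ.app (op V) (x f hf) = T'.P.obj.map f.op s' :=
    fun V f hf => (hex f hf).choose_spec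
  have hcomp : x.Compatible := by
    intro Y₁ Y₂ Z g₁ g₂ f₁ f₂ h₁ h₂ e
    apply θ_injective T T' θ hθ (op Z)
    rw [NatTrans.naturality_apply θ g₁.op, NatTrans.naturality_apply θ g₂.op, hx f₁ h₁, hx f₂ h₂]
    rw [← FunctorToTypes.map_comp_apply, ← FunctorToTypes.map_comp_apply, ← op_comp, ← op_comp, e]
  refine ⟨(hP R hR).amalgamate x hcomp, ?_⟩
  refine (hP' R hR).isSeparatedFor.ext ?_
  intro V f hf
  rw [← NatTrans.naturality_apply θ f.op, (hP R hR).valid_glue hcomp f hf, hx f hf]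

include hθ in
theorem hasSection_of_hasSection (h : T'.HasSection) : T.HasSection := by
  obtain ⟨σ⟩ := h
  obtain ⟨s', hs'⟩ := exists_family_of_section _ σ
  have hex : ∀ U : Cᵒᵖ, ∃ p : T.P.obj.obj U, θ.app U p = s' U := fun U =>
    exists_preimage T T' θ hθ U.unop (s' U)
  refine ⟨sectionOfFamily _ (fun U => (hex U).choose) (fun {U V} f => ?_)⟩
  apply θ_injective T T' θ hθ V
  rw [NatTrans.naturality_apply θ f, (hex U).choose_spec, (hex V).choose_spec, hs' f]

end iso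

end Groth.Agent.Lib.Helper2.TorsExt
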