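import Groth.Agent.Lib.Helper2.TorsExt.Classes
import Groth.Prelude.Def_Wider

/-!
# `Ext_A(M, N) ≅ Ext_B(B ⊗ M, B ⊗ N)` for `I`-power torsion `M`, `A → B` flat with `A/I ≅ B/IB`
-/

set_option autoImplicit false
universe u

open CategoryTheory CategoryTheory.Limits DerivedCategory TensorProduct Pretriangulated

namespace Groth.Agent.Lib.Helper2.TorsExt

open Groth.Agent.Lib.Helper13 Groth.Agent.Lib.Helper13.Coind Groth.Agent.Lib.Helper13.DR
  Groth.Agent.Lib.Helper13.PC

attribute [local instance] HasDerivedCategory.standard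

variable (A B : Type u) [CommRing A] [CommRing B] [Algebra A B] [Module.Flat A B]

instance : (extD A B).Additive := by
  unfold extD
  infer_instance

variable {A} (M : Type u) [AddCommGroup M] [Module A M]

/-- Both sides vanish on objects on which some `f` (with `M` `f`-power torsion) acts bijectively. -/
lemma PP_of_BijD (f : A) (hM : FTors f M) (Y : Dual.D A) (hY : BijD f Y) :
    PP (extD A B) (Dual.inD A M) Y := by
  intro j
  have h1 : ∀ g : Dual.inD A M ⟶ Y⟦j⟧, g = 0 := fun g => (hY.shift j).eq_zero hM g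
  have h2 : ∀ k : (extD A B).obj (Dual.inD A M) ⟶ (extD A B).obj (Y⟦j⟧), k = 0 := by
    intro k
    have h3 : (extResAdj A B).homEquiv _ _ k = 0 :=
      (BijD.resExt B (hY.shift j)).eq_zero hM _
    have h4 := ((extResAdj A B).homEquiv _ _).left_inv k
    rw [← h4]
    change ((extResAdj A B).homEquiv _ _).symm ((extResAdj A B).homEquiv _ _ k) = 0
    rw [h3, Adjunction.homEquiv_symm_apply, Functor.map_zero, zero_comp]
  constructor
  · intro g g' _
    rw [h1 g, h1 g']
  · intro k
    exact ⟨0, by rw [h2 k]; exact Functor.map_zero _ _ _⟩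

/-- If the unit at `Z` is an isomorphism then `L` is bijective on `Hom(T, Z)`. -/
lemma QQ_of_isIso_unit (T Z : Dual.D A) (h : IsIso ((extResAdj A B).unit.app Z)) :
    QQ (extD A B) T Z := by
  have key : ∀ g : T ⟶ Z, (extResAdj A B).homEquiv _ _ ((extD A B).map g) =
      g ≫ (extResAdj A B).unit.app Z := by
    intro g
    rw [Adjunction.homEquiv_unit]
    exact ((extResAdj A B).unit.naturality g).symm
  have hbij : Function.Bijective (fun g : T ⟶ Z => g ≫ (extResAdj A B).unit.app Z) := by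
    constructor
    · intro g g' hgg
      exact (cancel_mono _).1 hgg
    · intro k
      exact ⟨k ≫ inv ((extResAdj A B).unit.app Z), by simp⟩
  have : (fun g : T ⟶ Z => (extD A B).map g) =
      ((extResAdj A B).homEquiv _ _).symm ∘ (fun g : T ⟶ Z => g ≫ (extResAdj A B).unit.app Z) := by
    funext g
    rw [Function.comp_apply, ← key g, Equiv.symm_apply_apply]
  unfold QQ
  rw [this]
  exact ((extResAdj A B).homEquiv _ _).symm.bijective.comp hbij

variable (I : Ideal A)
  (hs : Function.Surjective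
    ((Ideal.Quotient.mk (I.map (algebraMap A B))).comp (algebraMap A B)))
  (hk : RingHom.ker
    ((Ideal.Quotient.mk (I.map (algebraMap A B))).comp (algebraMap A B)) = I)

include hs hk in
lemma PP_of_TorsD (S : Finset A) (hS : Ideal.span (S : Set A) = I) (T Y : Dual.D A)
    (h : ∀ g ∈ S, TorsD g Y) : PP (extD A B) T Y :=
  fun j => QQ_of_isIso_unit B T _
    (isIso_unit_of_TorsD B I hs hk S hS _ (fun g hg => (h g hg).shift j))

include hs hk in
/-- The dévissage by localizations. -/
lemma PP_of_list (hM : ∀ m : M, ∃ n : ℕ, ∀ a ∈ I ^ n, a • m = 0)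
    (S : Finset A) (hS : Ideal.span (S : Set A) = I) (l : List A) :
    (∀ g ∈ l, g ∈ I) → ∀ Y : Dual.D A, (∀ g ∈ S, g ∉ l → TorsD g Y) →
      PP (extD A B) (Dual.inD A M) Y := by
  induction l with
  | nil =>
    intro _ Y hY
    exact PP_of_TorsD B I hs hk S hS _ Y (fun g hg => hY g hg (by simp))
  | cons f l ih =>
    intro hl Y hY
    have hfI : f ∈ I := hl f (by simp)
    obtain ⟨C, c, w, hΔ⟩ := distinguished_cocone_triangle₁
      ((extResAdj A (Localization.Away f)).unit.app Y)
    have hloc : PP (extD A B) (Dual.inD A M) (locD f Y) :=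
      PP_of_BijD B M f (FTors_of_powerTorsion f I hfI hM) _ (BijD_locD f Y)
    have hC : PP (extD A B) (Dual.inD A M) C := by
      apply ih (fun g hg => hl g (List.mem_cons_of_mem _ hg))
      intro g hg hgl
      by_cases hgf : g = f
      · subst hgf
        exact TorsD_cocone Y C c w hΔ
      · have hgY : TorsD g Y := hY g hg (by
          intro hmem
          rcases List.mem_cons.1 hmem with h | h
          · exact hgf h
          · exact hgl h)
        exact TorsD.obj₁ _ hΔ hgY (hgY.resExt (Localization.Away f))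
    exact PP.obj₂ _ hΔ hC hloc

include hs hk in
/-- **Ext base change for `I`-power torsion modules.** -/
theorem nonempty_addEquiv (hI : I.FG) (N : Type u) [AddCommGroup N] [Module A N]
    (hM : ∀ m : M, ∃ n : ℕ, ∀ a ∈ I ^ n, a • m = 0) (i : ℤ) :
    Nonempty ((Dual.inD A M ⟶ (Dual.inD A N)⟦i⟧) ≃+
      (Dual.inD B (B ⊗[A] M) ⟶ (Dual.inD B (B ⊗[A] N))⟦i⟧)) := by
  obtain ⟨S, hS⟩ := hI
  have hPP : PP (extD A B) (Dual.inD A M) (Dual.inD A N) :=
    PP_of_list B M I hs hk hM S hS S.toList
      (fun g hg => by rw [← hS]; exact Ideal.subset_span (Finset.mem_toList.1 hg))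
      _ (fun g hg hgl => absurd (Finset.mem_toList.2 hg) hgl)
  have hQ := hPP i
  let e₁ : (extD A B).obj (Dual.inD A M) ≅ Dual.inD B (B ⊗[A] M) := flatBCSingleIso A B M
  let e₂ : (extD A B).obj ((Dual.inD A N)⟦i⟧) ≅ (Dual.inD B (B ⊗[A] N))⟦i⟧ :=
    ((extD A B).commShiftIso i).app _ ≪≫ (shiftFunctor (Dual.D B) i).mapIso (flatBCSingleIso A B N)
  let φ : (Dual.inD A M ⟶ (Dual.inD A N)⟦i⟧) →+
      (Dual.inD B (B ⊗[A] M) ⟶ (Dual.inD B (B ⊗[A] N))⟦i⟧) :=
    { toFun := fun g => e₁.inv ≫ (extD A B).map g ≫ e₂.hom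
      map_zero' := by simp
      map_add' := fun g g' => by simp }
  refine ⟨AddEquiv.ofBijective φ ⟨?_, ?_⟩⟩
  · intro g g' hgg
    have h1 : e₁.inv ≫ (extD A B).map g ≫ e₂.hom = e₁.inv ≫ (extD A B).map g' ≫ e₂.hom := hgg
    rw [cancel_epi, cancel_mono] at h1
    exact hQ.1 h1
  · intro k
    obtain ⟨g, hg⟩ := hQ.2 (e₁.hom ≫ k ≫ e₂.inv)
    refine ⟨g, ?_⟩
    have hg' : (extD A B).map g = e₁.hom ≫ k ≫ e₂.inv := hg
    change e₁.inv ≫ (extD A B).map g ≫ e₂.hom = k
    rw [hg']
    simp

end Groth.Agent.Lib.Helper2.TorsExt
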