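import Groth.Agent.Lib.Helper2.TorsExt.Basic

set_option autoImplicit false
universe u
open CategoryTheory CategoryTheory.Limits Opposite

namespace Groth.Agent.Lib.Helper2.TorsExt

variable {C : Type u} [SmallCategory C] {J : GrothendieckTopology C}

section torsor

variable {G E : Sheaf J AddCommGrpCat.{u}} (a : G ⟶ E) (b : E ⟶ Zc J)

/-- sections of `E` mapping to `1` -/
def sub : Subfunctor (E.obj ⋙ forget AddCommGrpCat.{u}) where
  obj U := {e | b.hom.app U (e : E.obj.obj U) = one J U}
  map {U V} i e he := by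
    show b.hom.app V (E.obj.map i (e : E.obj.obj U)) = one J V
    have := NatTrans.naturality_apply b.hom i (e : E.obj.obj U)
    rw [this]
    have he' : b.hom.app U (e : E.obj.obj U) = one J U := he
    rw [he', map_one]

theorem isSheaf_sub : Presieve.IsSheaf J (sub b).toFunctor := by
  have hE : Presieve.IsSheaf J (E.obj ⋙ forget AddCommGrpCat.{u}) :=
    (isSheaf_iff_isSheaf_of_type J _).1
      ((Presheaf.isSheaf_iff_isSheaf_forget J E.obj (forget AddCommGrpCat.{u})).1 E.property)
  rw [Subfunctor.isSheaf_iff _ hE]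
  intro U e he
  show b.hom.app U (e : E.obj.obj U) = one J U
  have hZ : Presieve.IsSheaf J ((Zc J).obj ⋙ forget AddCommGrpCat.{u}) :=
    (isSheaf_iff_isSheaf_of_type J _).1
      ((Presheaf.isSheaf_iff_isSheaf_forget J (Zc J).obj (forget AddCommGrpCat.{u})).1
        (Zc J).property)
  refine (hZ _ he).isSeparatedFor.ext ?_
  intro V f hf
  have h1 : b.hom.app (op V) (E.obj.map f.op (e : E.obj.obj U)) = one J (op V) := hf
  have := NatTrans.naturality_apply b.hom f.op (e : E.obj.obj U)
  show (Zc J).obj.map f.op (b.hom.app U (e : E.obj.obj U)) = (Zc J).obj.map f.op (one J U)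
  rw [← this, h1, map_one]


variable (w : a ≫ b = 0) (hS : (ShortComplex.mk a b w).ShortExact)

include w in
theorem b_a_apply (U : Cᵒᵖ) (g : G.obj.obj U) : b.hom.app U (a.hom.app U g) = 0 := by
  have h1 : (a ≫ b).hom.app U g = 0 := by rw [w]; rfl
  exact h1

include hS in
theorem existsUnique_aux (U : Cᵒᵖ) (pe qe : E.obj.obj U) (hp : b.hom.app U pe = one J U)
    (hq : b.hom.app U qe = one J U) : ∃! g : G.obj.obj U, a.hom.app U g + pe = qe := by
  have hd : b.hom.app U (qe - pe) = 0 := by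
    rw [map_sub, hp, hq, sub_self]
  obtain ⟨g, hg⟩ := exact_app hS U _ hd
  have hg2 : a.hom.app U g = qe - pe := hg
  refine ⟨g, ?_, fun g' hg' => ?_⟩
  · show a.hom.app U g + pe = qe
    rw [hg2, sub_add_cancel]
  · apply f_injective hS U
    have hg'' : a.hom.app U g' + pe = qe := hg'
    show a.hom.app U g' = a.hom.app U g
    rw [hg2, ← hg'', add_sub_cancel_right]

/-- the torsor of splittings of an extension of `ℤ` by `G` -/
noncomputable def torsorOfExt : Tors.Torsor G where
  P := ⟨(sub b).toFunctor, (isSheaf_iff_isSheaf_of_type J _).2 (isSheaf_sub b)⟩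
  vadd {U} g p := ⟨(a.hom.app U g + (p.1 : E.obj.obj U) : E.obj.obj U), by
    show b.hom.app U (a.hom.app U g + (p.1 : E.obj.obj U)) = one J U
    rw [map_add, b_a_apply a b w, zero_add]
    exact p.2⟩
  zero_vadd {U} p := by
    apply Subtype.ext
    show (a.hom.app U 0 + (p.1 : E.obj.obj U) : E.obj.obj U) = p.1
    rw [map_zero, zero_add]
  add_vadd {U} g h p := by
    apply Subtype.ext
    show (a.hom.app U (g + h) + (p.1 : E.obj.obj U) : E.obj.obj U) =
      a.hom.app U g + (a.hom.app U h + (p.1 : E.obj.obj U))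
    rw [map_add, add_assoc]
  map_vadd {U V} f g p := by
    apply Subtype.ext
    show E.obj.map f (a.hom.app U g + (p.1 : E.obj.obj U)) =
      a.hom.app V (G.obj.map f g) + E.obj.map f (p.1 : E.obj.obj U)
    rw [map_add, NatTrans.naturality_apply a.hom f g]
  free_transitive {U} p q := by
    obtain ⟨g, hg, hu⟩ := existsUnique_aux a b w hS U p.1 q.1 p.2 q.2
    exact ⟨g, Subtype.ext hg, fun g' hg' => hu g' (congrArg Subtype.val hg')⟩
  locally_nonempty U := by
    obtain ⟨R, hR, h⟩ := g_locally_surjective hS U (one J (op U))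
    refine ⟨R, hR, fun V f hf => ?_⟩
    obtain ⟨e, he⟩ := h f hf
    refine ⟨⟨e, ?_⟩⟩
    show b.hom.app (op V) e = one J (op V)
    rw [← map_one f.op]
    exact he

end torsor

section sections

/-- a global section of a sheaf of sets from a compatible family -/
noncomputable def sectionOfFamily (P : Sheaf J (Type u)) (s : ∀ U : Cᵒᵖ, P.obj.obj U)
    (hs : ∀ {U V : Cᵒᵖ} (f : U ⟶ V), P.obj.map f (s U) = s V) : ⊤_ (Sheaf J (Type u)) ⟶ P :=
  (Sheaf.isTerminalTerminal J Types.isTerminalPunit).from _ ≫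
    ⟨{ app := fun U => TypeCat.ofHom (fun _ => s U)
       naturality := fun U V f => by
         ext x
         exact (hs f).symm }⟩

theorem exists_family_of_section (P : Sheaf J (Type u)) (σ : ⊤_ (Sheaf J (Type u)) ⟶ P) :
    ∃ s : ∀ U : Cᵒᵖ, P.obj.obj U, ∀ {U V : Cᵒᵖ} (f : U ⟶ V), P.obj.map f (s U) = s V := by
  let τ : Sheaf.terminal J Types.isTerminalPunit ⟶ P := terminal.from _ ≫ σ
  refine ⟨fun U => τ.hom.app U PUnit.unit, fun {U V} f => ?_⟩
  exact (NatTrans.naturality_apply τ.hom f PUnit.unit).symm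

end sections

section split

variable {G E : Sheaf J AddCommGrpCat.{u}} (a : G ⟶ E) (b : E ⟶ Zc J) (w : a ≫ b = 0)
  (hS : (ShortComplex.mk a b w).ShortExact)

/-- the presheaf map `ℤ ⟶ E` attached to a compatible family -/
noncomputable def famHom (e : ∀ U : Cᵒᵖ, E.obj.obj U)
    (he : ∀ {U V : Cᵒᵖ} (f : U ⟶ V), E.obj.map f (e U) = e V) : Zp C ⟶ E.obj where
  app U := AddCommGrpCat.ofHom
    (((zmultiplesHom (E.obj.obj U)) (e U)).comp AddEquiv.ulift.toAddMonoidHom)
  naturality U V f := by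
    ext n
    show (n.down : ℤ) • e V = E.obj.map f ((n.down : ℤ) • e U)
    rw [map_zsmul, he f]

theorem famHom_apply (e : ∀ U : Cᵒᵖ, E.obj.obj U)
    (he : ∀ {U V : Cᵒᵖ} (f : U ⟶ V), E.obj.map f (e U) = e V) (U : Cᵒᵖ) (n : ULift.{u} ℤ) :
    (famHom e he).app U n = (n.down : ℤ) • e U := rfl

theorem η_apply (U : Cᵒᵖ) (n : ULift.{u} ℤ) : (η J).app U n = (n.down : ℤ) • one J U := by
  unfold one
  rw [← map_zsmul]
  congr 1
  apply ULift.ext
  simp

include hS in
theorem exists_section_of_hasSection (h : (torsorOfExt a b w hS).HasSection) :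
    ∃ σ : Zc J ⟶ E, σ ≫ b = 𝟙 _ := by
  obtain ⟨s⟩ := h
  obtain ⟨p, hp⟩ := exists_family_of_section _ s
  let e : ∀ U : Cᵒᵖ, E.obj.obj U := fun U => (p U).1
  have he : ∀ {U V : Cᵒᵖ} (f : U ⟶ V), E.obj.map f (e U) = e V := fun f =>
    congrArg Subtype.val (hp f)
  have hb : ∀ U, b.hom.app U (e U) = one J U := fun U => (p U).2
  let adj := sheafificationAdjunction J AddCommGrpCat.{u}
  let σ : Zc J ⟶ E := (adj.homEquiv (Zp C) E).symm (famHom e he)
  refine ⟨σ, ?_⟩
  apply (adj.homEquiv (Zp C) (Zc J)).injective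
  rw [Adjunction.homEquiv_naturality_right, Equiv.apply_symm_apply, Adjunction.homEquiv_id]
  ext U n
  show b.hom.app U ((famHom e he).app U n) = (η J).app U n
  rw [famHom_apply, map_zsmul, hb, η_apply]

theorem hasSection_of_section (σ : Zc J ⟶ E) (hσ : σ ≫ b = 𝟙 _) :
    (torsorOfExt a b w hS).HasSection := by
  have hb : ∀ U, b.hom.app U (σ.hom.app U (one J U)) = one J U := fun U => by
    have : (σ ≫ b).hom.app U (one J U) = one J U := by rw [hσ]; rfl
    exact this
  refine ⟨sectionOfFamily _ (fun U => ⟨σ.hom.app U (one J U), hb U⟩) (fun {U V} f => ?_)⟩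
  apply Subtype.ext
  show E.obj.map f (σ.hom.app U (one J U)) = σ.hom.app V (one J V)
  rw [← NatTrans.naturality_apply σ.hom f (one J U), map_one]

end split

end Groth.Agent.Lib.Helper2.TorsExt
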