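import Groth.Agent.Lib.Helper13.LocFF1
import Groth.Agent.Lib.Helper13.DRingDescent
import Groth.Agent.Lib.Helper13.DRingRestrict
import Groth.Agent.Lib.Helper13.PCDerived

/-!
# The unit `Y → res (B ⊗ Y)` in `D(A)` is an isomorphism when it is so on cohomology
-/

set_option autoImplicit false
universe u

open CategoryTheory CategoryTheory.Limits DerivedCategory

namespace Groth.Agent.Lib.Helper2.TorsExt

open Groth.Agent.Lib.Helper13 Groth.Agent.Lib.Helper13.Coind Groth.Agent.Lib.Helper13.DR
  Groth.Agent.Lib.Helper13.PC

attribute [local instance] HasDerivedCategory.standard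

variable (A B : Type u) [CommRing A] [CommRing B] [Algebra A B] [Module.Flat A B]

/-- The module level adjunction. -/
noncomputable abbrev mAdj :
    ModuleCat.extendScalars.{u, u, u} (algebraMap A B) ⊣
      ModuleCat.restrictScalars.{u} (algebraMap A B) :=
  ModuleCat.extendRestrictScalarsAdj.{u, u, u} (algebraMap A B)

/-- The chain level adjunction. -/
noncomputable abbrev cAdj :=
  Kan.adjCx (mAdj A B) (ComplexShape.up ℤ)

lemma sc_map_unit (K : DRing.Cx A) (i : ℤ) :
    (HomologicalComplex.shortComplexFunctor _ _ i).map ((cAdj A B).unit.app K) =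
      (K.sc i).mapNatTrans (mAdj A B).unit := by
  ext <;> rfl

/-- Chain level: the unit is a quasi-isomorphism if it is an isomorphism on homology modules. -/
lemma quasiIso_unit (K : DRing.Cx A)
    (h : ∀ j : ℤ, IsIso ((mAdj A B).unit.app (K.homology j))) :
    QuasiIso ((cAdj A B).unit.app K) := by
  rw [quasiIso_iff]
  intro i
  rw [quasiIsoAt_iff_isIso_homologyMap]
  have key : IsIso (ShortComplex.homologyMap ((K.sc i).mapNatTrans (mAdj A B).unit)) := by
    rw [ShortComplex.homologyMap_mapNatTrans]
    have : IsIso ((mAdj A B).unit.app (K.sc i).homology) := h i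
    infer_instance
  exact key

/-- The unit of the derived adjunction at `Q K`. -/
lemma isIso_unit_Q (K : DRing.Cx A)
    (h : ∀ j : ℤ, IsIso ((mAdj A B).unit.app (K.homology j))) :
    IsIso ((extResAdj A B).unit.app (Q.obj K)) := by
  have hq := quasiIso_unit A B K h
  have : IsIso (Q.map ((cAdj A B).unit.app K)) := by
    rw [isIso_Q_map_iff_quasiIso]; exact hq
  unfold extResAdj
  rw [Adjunction.localization_unit_app]
  infer_instance

/-- **Lemma G**: the unit `Y → res (B ⊗ Y)` is an isomorphism if it is on all cohomology modules. -/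
theorem isIso_unit (Y : Dual.D A)
    (h : ∀ j : ℤ, IsIso ((mAdj A B).unit.app ((homologyFunctor (ModuleCat.{u} A) j).obj Y))) :
    IsIso ((extResAdj A B).unit.app Y) := by
  let K := Q.objPreimage Y
  let e : Q.obj K ≅ Y := Q.objObjPreimageIso Y
  have h1 : IsIso ((extResAdj A B).unit.app (Q.obj K)) := by
    apply isIso_unit_Q
    intro j
    have e2 : K.homology j ≅ (homologyFunctor (ModuleCat.{u} A) j).obj Y :=
      (homologyQIso K j).symm ≪≫ (homologyFunctor (ModuleCat.{u} A) j).mapIso e
    have := h j
    exact (NatTrans.isIso_app_iff_of_iso (mAdj A B).unit e2).2 (h j)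
  exact (NatTrans.isIso_app_iff_of_iso (extResAdj A B).unit e).1 h1

end Groth.Agent.Lib.Helper2.TorsExt
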